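import Mathlib
import Cfsg.Agent.H175.BdSp
import Cfsg.Prelude.Def_Classical

/-!
# Box (N): the degree bound `54` for `PGSp8(3)` (helper418)

* `heis54` : a projective representation of a group containing `3 ^ {1 + 6}` and an element inverting its centre;
* `bd_mulAut` : `Bd F 3 54 (MulAut (PSp 4 K))`, `|K| = 3`.
-/

set_option autoImplicit false

namespace Cfsg.Agent.H418.NN

open Cfsg Cfsg.Agent.H912.Bd Matrix

universe u v

section abs

variable {F : Type u} [Field F] {T : Type v} [Group T] {K : Type*} [Field K] [Fintype K]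

/-- the abstract Heisenberg bound -/
theorem heis54 {n : ℕ} (h : PR F n 3 T) (h3 : (3 : F) ≠ 0) (hK : Fintype.card K = 3)
    (e : K × (Fin 3 → K) → T) (b : (Fin 3 → K) → T) (g : T) (he : ∀ x y, e (x + y) = e x * e y)
    (hb : ∀ a s m, b a * e (s, m) * (b a)⁻¹ = e (s + 2 * ∑ i, a i * m i, m))
    (hg : ∀ x, g * e x * g⁻¹ = e (-x)) (h0 : e (1, 0) ≠ 1) : 54 ≤ n := by
  classical
  have hc3 : (3 : K) = 0 := by
    have h1 : ((Fintype.card K : ℕ) : K) = 0 := Nat.cast_card_eq_zero K
    rw [hK] at h1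
    exact_mod_cast h1
  have h2 : (2 : K) ≠ 0 := by
    intro h2
    have : (1 : K) = 0 := by linear_combination hc3 - h2
    exact one_ne_zero this
  have he0 : e 0 = 1 := by
    have h1 := he 0 0
    rw [add_zero] at h1
    exact (mul_eq_left.1 h1.symm)
  have heneg : ∀ x, (e x)⁻¹ = e (-x) := by
    intro x
    rw [inv_eq_iff_mul_eq_one, ← he, add_neg_cancel, he0]
  let E : Subgroup T :=
    { carrier := Set.range e
      one_mem' := ⟨0, he0⟩
      mul_mem' := by
        rintro _ _ ⟨a, rfl⟩ ⟨a', rfl⟩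
        exact ⟨_, he a a'⟩
      inv_mem' := by
        rintro _ ⟨a, rfl⟩
        exact ⟨_, (heneg a).symm⟩ }
  have hmem : ∀ a, e a ∈ E := fun a => ⟨a, rfl⟩
  have hfin : Finite E := by
    have hs : Function.Surjective (fun a : K × (Fin 3 → K) => (⟨e a, hmem a⟩ : E)) := by
      rintro ⟨_, a, rfl⟩
      exact ⟨a, rfl⟩
    exact Finite.of_surjective _ hs
  -- the elements
  let sg : Bool → K := fun i => if i then -1 else 1
  let s : (Fin 3 → K) × Bool → T := fun x => b x.1 * (if x.2 then g else 1)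
  have hs : ∀ a i c m, s (a, i) * e (c, m) * (s (a, i))⁻¹ = e (sg i * (c + 2 * ∑ j, a j * m j), fun j => sg i * m j) := by
    intro a i c m
    cases i with
    | false =>
      show (b a * (if false = true then g else 1)) * e (c, m) * (b a * (if false = true then g else 1))⁻¹ = _
      rw [if_neg (by decide), mul_one, hb]
      congr 1
      ext1
      · show c + 2 * ∑ j, a j * m j = (if false = true then -1 else 1) * (c + 2 * ∑ j, a j * m j)
        rw [if_neg (by decide), one_mul]
      · funext j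
        show m j = (if false = true then -1 else 1) * m j
        rw [if_neg (by decide), one_mul]
    | true =>
      show (b a * (if true = true then g else 1)) * e (c, m) * (b a * (if true = true then g else 1))⁻¹ = _
      rw [if_pos rfl]
      have h1 : b a * g * e (c, m) * (b a * g)⁻¹ = b a * (g * e (c, m) * g⁻¹) * (b a)⁻¹ := by group
      rw [h1, hg, Prod.neg_mk, hb]
      congr 1
      ext1
      · show -c + 2 * ∑ j, a j * (-m) j = (if true = true then -1 else 1) * (c + 2 * ∑ j, a j * m j)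
        rw [if_pos rfl]
        simp only [Pi.neg_apply, mul_neg, Finset.sum_neg_distrib]
        ring
      · funext j
        show (-m) j = (if true = true then -1 else 1) * m j
        rw [if_pos rfl, Pi.neg_apply]
        ring
  have hsep : ∀ x y : (Fin 3 → K) × Bool, x ≠ y → ∃ z, (s x * e z * (s x)⁻¹) * (s y * e z * (s y)⁻¹)⁻¹ = e (1, 0) := by
    rintro ⟨a, i⟩ ⟨a', i'⟩ hne
    by_cases hi : i = i'
    · subst hi
      have ha : a ≠ a' := fun h => hne (by rw [h])
      obtain ⟨j, hj⟩ := Function.ne_iff.1 ha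
      have hj' : a j - a' j ≠ 0 := sub_ne_zero.2 hj
      have hsg : sg i * sg i = 1 := by
        show (if i then (-1 : K) else 1) * (if i then (-1 : K) else 1) = 1
        split_ifs <;> ring
      refine ⟨(0, Pi.single j (sg i * (2 * (a j - a' j))⁻¹)), ?_⟩
      rw [hs, hs, heneg, ← he]
      congr 1
      have hsum : ∀ c : Fin 3 → K, ∑ l, c l * (Pi.single j (sg i * (2 * (a j - a' j))⁻¹) : Fin 3 → K) l =
          c j * (sg i * (2 * (a j - a' j))⁻¹) := by
        intro c
        rw [Finset.sum_eq_single j]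
        · rw [Pi.single_eq_same]
        · intro l _ hl
          rw [Pi.single_eq_of_ne hl, mul_zero]
        · intro h; exact absurd (Finset.mem_univ j) h
      ext1
      · show sg i * (0 + 2 * ∑ l, a l * (Pi.single j (sg i * (2 * (a j - a' j))⁻¹) : Fin 3 → K) l) +
          -(sg i * (0 + 2 * ∑ l, a' l * (Pi.single j (sg i * (2 * (a j - a' j))⁻¹) : Fin 3 → K) l)) = 1
        rw [hsum, hsum]
        have h5 : (2 * (a j - a' j)) * (2 * (a j - a' j))⁻¹ = 1 := mul_inv_cancel₀ (mul_ne_zero h2 hj')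
        have h6 : sg i * (0 + 2 * (a j * (sg i * (2 * (a j - a' j))⁻¹))) +
          -(sg i * (0 + 2 * (a' j * (sg i * (2 * (a j - a' j))⁻¹)))) =
            (sg i * sg i) * ((2 * (a j - a' j)) * (2 * (a j - a' j))⁻¹) := by ring
        rw [h6, h5, hsg, one_mul]
      · funext l
        show sg i * _ + -(sg i * _) = (0 : K)
        ring
    · have hsg : sg i + -sg i' ≠ 0 := by
        cases i <;> cases i'
        · exact absurd rfl hi
        · show (if false = true then (-1 : K) else 1) + -(if true = true then (-1 : K) else 1) ≠ 0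
          rw [if_neg (by decide), if_pos rfl]
          intro h; apply h2; linear_combination h
        · show (if true = true then (-1 : K) else 1) + -(if false = true then (-1 : K) else 1) ≠ 0
          rw [if_pos rfl, if_neg (by decide)]
          intro h; apply h2; linear_combination -h
        · exact absurd rfl hi
      refine ⟨((sg i + -sg i')⁻¹, 0), ?_⟩
      rw [hs, hs, heneg, ← he]
      congr 1
      ext1
      · show sg i * ((sg i + -sg i')⁻¹ + 2 * ∑ j, a j * (0 : Fin 3 → K) j) +
          -(sg i' * ((sg i + -sg i')⁻¹ + 2 * ∑ j, a' j * (0 : Fin 3 → K) j)) = 1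
        simp only [Pi.zero_apply, mul_zero, Finset.sum_const_zero, add_zero]
        rw [← mul_inv_cancel₀ hsg]
        ring
      · funext l
        show sg i * (0 : Fin 3 → K) l + -(sg i' * (0 : Fin 3 → K) l) = (0 : K)
        simp
  have hinj : Function.Injective s := by
    intro x y hxy
    by_contra hne
    obtain ⟨z, hz⟩ := hsep x y hne
    rw [hxy, mul_inv_cancel] at hz
    exact h0 hz.symm
  have key := h.bound Nat.prime_three (by exact_mod_cast h3) E
    (by rintro _ ⟨a, rfl⟩ _ ⟨a', rfl⟩; rw [← he, ← he, add_comm])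
    (by
      rintro ⟨_, a, rfl⟩
      refine ⟨1, Subtype.ext ?_⟩
      show e a ^ 3 ^ 1 = 1
      have h1 : a + a + a = 0 := by
        have h5 : ∀ c : K, c + c + c = 0 := fun c => by linear_combination c * hc3
        ext1
        · exact h5 a.1
        · funext j
          exact h5 (a.2 j)
      rw [pow_one, pow_succ, pow_two, ← he, ← he, h1, he0])
    (hmem (1, 0)) h0 (Finset.univ.image s)
    (by
      intro t ht x hx
      obtain ⟨⟨a, i⟩, -, rfl⟩ := Finset.mem_image.1 ht
      obtain ⟨⟨c, m⟩, rfl⟩ := hx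
      rw [hs]
      exact hmem _)
    (by
      intro t ht t' ht' hne
      obtain ⟨x, -, rfl⟩ := Finset.mem_image.1 ht
      obtain ⟨y, -, rfl⟩ := Finset.mem_image.1 ht'
      obtain ⟨z, hz⟩ := hsep x y (fun h => hne (by rw [h]))
      exact ⟨e z, hmem z, hz⟩)
  rw [Finset.card_image_of_injective _ hinj, Finset.card_univ, Fintype.card_prod, Fintype.card_fun, hK,
    Fintype.card_fin, Fintype.card_bool] at key
  exact key

end abs

section sp

open Cfsg.Agent.H175.BdSp

variable {K : Type*} [Field K]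

/-- the matrix `[s, mᵀ; m, 0]` -/
def symM (x : K × (Fin 3 → K)) : Matrix (Fin 4) (Fin 4) K :=
  !![x.1, x.2 0, x.2 1, x.2 2; x.2 0, 0, 0, 0; x.2 1, 0, 0, 0; x.2 2, 0, 0, 0]

theorem symM_transpose (x : K × (Fin 3 → K)) : (symM x)ᵀ = symM x := by
  ext i j
  fin_cases i <;> fin_cases j <;> rfl

theorem symM_add (x y : K × (Fin 3 → K)) : symM (x + y) = symM x + symM y := by
  ext i j
  fin_cases i <;> fin_cases j <;> simp [symM]

theorem symM_neg (x : K × (Fin 3 → K)) : symM (-x) = -symM x := by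
  ext i j
  fin_cases i <;> fin_cases j <;> simp [symM]

/-- the matrix `[1, aᵀ; 0, 1]` -/
def uniR (a : Fin 3 → K) : Matrix (Fin 4) (Fin 4) K := !![1, a 0, a 1, a 2; 0, 1, 0, 0; 0, 0, 1, 0; 0, 0, 0, 1]

/-- the matrix `[1, 0; -a, 1]` -/
def uniP (a : Fin 3 → K) : Matrix (Fin 4) (Fin 4) K := !![1, 0, 0, 0; -a 0, 1, 0, 0; -a 1, 0, 1, 0; -a 2, 0, 0, 1]

theorem uniP_mul (a : Fin 3 → K) : uniP a * (uniR a)ᵀ = 1 := by
  ext i j
  fin_cases i <;> fin_cases j <;> simp [uniP, uniR, Matrix.mul_apply, Fin.sum_univ_four]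

theorem uniR_sym (a : Fin 3 → K) (c : K) (m : Fin 3 → K) :
    uniR a * symM (c, m) * (uniR a)ᵀ = symM (c + 2 * ∑ i, a i * m i, m) := by
  ext i j
  fin_cases i <;> fin_cases j <;>
    simp [symM, uniR, Matrix.mul_apply, Fin.sum_univ_four, Fin.sum_univ_three]
  ring

/-- the similitude `diag(1, -1)` -/
def simG : Matrix (Fin 4 ⊕ Fin 4) (Fin 4 ⊕ Fin 4) K := Matrix.fromBlocks 1 0 0 (-1)

theorem simG_mul : (simG : Matrix (Fin 4 ⊕ Fin 4) (Fin 4 ⊕ Fin 4) K) * simG = 1 := by
  rw [simG, fromBlocks_multiply]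
  simp

theorem simG_transpose : (simG : Matrix (Fin 4 ⊕ Fin 4) (Fin 4 ⊕ Fin 4) K)ᵀ = simG := by
  rw [simG, fromBlocks_transpose]
  simp

theorem simG_J : (simG : Matrix (Fin 4 ⊕ Fin 4) (Fin 4 ⊕ Fin 4) K) * Matrix.J (Fin 4) K * simG =
    -Matrix.J (Fin 4) K := by
  rw [simG, Matrix.J, fromBlocks_multiply, fromBlocks_multiply, fromBlocks_neg]
  simp

theorem sim_mem {X : Matrix (Fin 4 ⊕ Fin 4) (Fin 4 ⊕ Fin 4) K} (hX : X ∈ Matrix.symplecticGroup (Fin 4) K) :
    simG * X * simG ∈ Matrix.symplecticGroup (Fin 4) K := by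
  rw [SymplecticGroup.mem_iff] at hX ⊢
  rw [transpose_mul, transpose_mul, simG_transpose]
  calc simG * X * simG * Matrix.J (Fin 4) K * (simG * (Xᵀ * simG))
      = simG * X * (simG * Matrix.J (Fin 4) K * simG) * (Xᵀ * simG) := by simp only [Matrix.mul_assoc]
    _ = -(simG * (X * Matrix.J (Fin 4) K * Xᵀ) * simG) := by
        rw [simG_J, Matrix.mul_neg, Matrix.neg_mul]; simp only [Matrix.mul_assoc]
    _ = Matrix.J (Fin 4) K := by rw [hX, simG_J, neg_neg]

theorem sim_sim (X : Matrix (Fin 4 ⊕ Fin 4) (Fin 4 ⊕ Fin 4) K) : simG * (simG * X * simG) * simG = X := by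
  have h := simG_mul (K := K)
  calc simG * (simG * X * simG) * simG = (simG * simG) * X * (simG * simG) := by simp only [Matrix.mul_assoc]
    _ = X := by rw [h, Matrix.one_mul, Matrix.mul_one]

theorem sim_mul (X Y : Matrix (Fin 4 ⊕ Fin 4) (Fin 4 ⊕ Fin 4) K) :
    simG * (X * Y) * simG = (simG * X * simG) * (simG * Y * simG) := by
  have h := simG_mul (K := K)
  calc simG * (X * Y) * simG = simG * X * 1 * Y * simG := by simp only [Matrix.mul_assoc, Matrix.one_mul]
    _ = _ := by rw [← h]; simp only [Matrix.mul_assoc]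

/-- the automorphism of the symplectic group -/
def simA : MulAut (Matrix.symplecticGroup (Fin 4) K) where
  toFun X := ⟨simG * X.1 * simG, sim_mem X.2⟩
  invFun X := ⟨simG * X.1 * simG, sim_mem X.2⟩
  left_inv X := Subtype.ext (sim_sim X.1)
  right_inv X := Subtype.ext (sim_sim X.1)
  map_mul' X Y := Subtype.ext (sim_mul X.1 Y.1)

theorem simA_lo {S : Matrix (Fin 4) (Fin 4) K} (hS : Sᵀ = S) :
    simA (lo S hS) = lo (-S) (by rw [transpose_neg, hS]) := by
  apply Subtype.ext
  show simG * Matrix.fromBlocks 1 0 S 1 * simG = Matrix.fromBlocks 1 0 (-S) 1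
  rw [simG, fromBlocks_multiply, fromBlocks_multiply]
  simp

/-- the automorphism of the projective symplectic group -/
def simP : MulAut (PSp 4 K) :=
  QuotientGroup.congr _ _ (simA (K := K)) (by
    have h : (Subgroup.center (Matrix.symplecticGroup (Fin 4) K)).Characteristic := inferInstance
    exact Subgroup.characteristic_iff_map_eq.1 h simA)

/-- **The bound for `Aut PSp8(3)`.** -/
theorem bd_mulAut [Fintype K] (hK : Fintype.card K = 3) (hZ : Subgroup.center (PSp 4 K) = ⊥) {F : Type u} [Field F]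
    (h3 : (3 : F) ≠ 0) : Bd F 3 54 (MulAut (PSp 4 K)) := by
  intro n hn
  let q : Matrix.symplecticGroup (Fin 4) K →* PSp 4 K := QuotientGroup.mk' _
  let e0 : K × (Fin 3 → K) → Matrix.symplecticGroup (Fin 4) K := fun x => lo (symM x) (symM_transpose x)
  refine heis54 hn h3 hK (fun x => MulAut.conj (q (e0 x))) (fun a => MulAut.conj (q (di _ _ (uniP_mul a)))) simP
    ?_ ?_ ?_ ?_
  · intro x y
    rw [← map_mul, ← map_mul, lo_mul]
    congr 2
    exact lo_congr (symM_add x y)
  · intro a c m
    rw [← map_mul, ← map_inv, ← map_mul, ← map_mul, ← map_inv, ← map_mul]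
    congr 2
    show di _ _ (uniP_mul a) * lo (symM (c, m)) (symM_transpose _) * (di _ _ (uniP_mul a))⁻¹ = _
    rw [di_lo, mul_inv_cancel_right]
    exact lo_congr (uniR_sym a c m)
  · intro x
    have h1 : ∀ y : PSp 4 K, (simP : MulAut (PSp 4 K)) * MulAut.conj y * (simP : MulAut (PSp 4 K))⁻¹ =
        MulAut.conj ((simP : MulAut (PSp 4 K)) y) := by
      intro y
      apply MulEquiv.ext
      intro z
      show simP (y * (simP⁻¹ : MulAut (PSp 4 K)) z * y⁻¹) = simP y * z * (simP y)⁻¹
      rw [map_mul, map_mul, map_inv]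
      congr 2
      exact MulAut.apply_inv_self _ _ _
    rw [h1]
    congr 1
    have h2 : (simP : MulAut (PSp 4 K)) (q (e0 x)) = q (simA (e0 x)) := rfl
    rw [h2, simA_lo]
    congr 1
    exact lo_congr (symM_neg x).symm
  · intro h1
    have h2 : q (e0 (1, 0)) ∈ Subgroup.center (PSp 4 K) := by
      rw [Subgroup.mem_center_iff]
      intro z
      have h3 : q (e0 (1, 0)) * z * (q (e0 (1, 0)))⁻¹ = z := by
        have h4 : (MulAut.conj (q (e0 (1, 0))) : MulAut (PSp 4 K)) z = z := by
          rw [show MulAut.conj (q (e0 (1, 0))) = (1 : MulAut (PSp 4 K)) from h1]; rfl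
        rwa [MulAut.conj_apply] at h4
      exact (mul_inv_eq_iff_eq_mul.1 h3).symm
    rw [hZ, Subgroup.mem_bot] at h2
    have h3 : e0 (1, 0) ∈ Subgroup.center (Matrix.symplecticGroup (Fin 4) K) := (QuotientGroup.eq_one_iff _).1 h2
    have h4 := lo_center _ h3
    have h5 := congrFun (congrFun h4 0) 0
    exact one_ne_zero h5

end sp

end Cfsg.Agent.H418.NN
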