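import Mathlib
import Cfsg.Agent.H912.BdOrth
import Cfsg.Agent.H912.MultChar
import Cfsg.Agent.H175.BdSU
import Cfsg.Agent.H175.BdSp
import Cfsg.Agent.H203.BdSL2
import Cfsg.Agent.H203.OrthHeis
import Cfsg.Agent.H203.LSE6
import Cfsg.Agent.H203.LSE7
import Cfsg.Agent.H203.LSE8
import Cfsg.Agent.H203.LSF4odd
import Cfsg.Agent.H203.LSG2
import Cfsg.Agent.H203.LSTwD4
import Cfsg.Agent.H203.LSTwE6
import Cfsg.Agent.H203.LSSz
import Cfsg.Agent.H902.Names

/-!
# Box (N): lower bounds for the degrees of the representations of the covers, odd cross characteristic (helper418)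

`lo X q`, and `lo_le` : the degree of a representation, over a field of characteristic different from `r`, of a finite
perfect central extension of a simple group of shape `X` over the field of `q = r ^ f` elements, `r` odd, is at least
`lo X q`, if its kernel is contained in the kernel of the extension.
-/

set_option autoImplicit false

namespace Cfsg.Agent.H418.NN

open Cfsg Cfsg.Agent.OrdDiv Cfsg.Agent.H902 Cfsg.Agent.H902.Names Cfsg.Agent.H912.Bd

universe u v

/-- the lower bounds -/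
def lo : Art.Sh → ℕ → ℕ
  | .L n, q => if n = 2 then (if q = 9 then 0 else (q - 1) / 2) else q ^ (n - 1) - 1
  | .C m, q => if m = 3 ∧ q = 3 then 0 else (q ^ m - 1) / 2
  | .U n, q => if n = 4 ∧ q = 3 then 0 else (q - 1) * q ^ (n - 2)
  | .D m, q => (q - 1) * q ^ (2 * m - 4)
  | .DD m, q => (q - 1) * q ^ (2 * m - 4)
  | .G2, q => (q - 1) * q
  | .F4, q => (q - 1) * q ^ 4
  | .E6, q => (q - 1) * q ^ 10
  | .E7, q => (q - 1) * q ^ 16
  | .E8, q => (q - 1) * q ^ 28
  | .TE6, q => (q - 1) * q ^ 6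
  | .TD4, q => (q - 1) * q ^ 4
  | .Sz, _ => 0
  | .Ree, q => q - 1
  | .TF4, _ => 0

/-- a finite perfect central extension of `T` has a representation of degree `n` over `k` whose kernel is central -/
def Cv (T : Type v) [Group T] (n : ℕ) (k : Type u) [Field k] : Prop :=
  ∃ (P : Type u) (_ : Group P) (_ : Finite P) (π : P →* T) (ρ : P →* Matrix.GeneralLinearGroup (Fin n) k),
    Function.Surjective π ∧ π.ker ≤ Subgroup.center P ∧ commutator P = ⊤ ∧ ρ.ker ≤ π.ker

variable {T : Type v} [Group T] {n : ℕ} {k : Type u} [Field k]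

theorem Cv.congr {T' : Type*} [Group T'] (h : Cv T n k) (e : T ≃* T') : Cv T' n k := by
  obtain ⟨P, _, _, π, ρ, h1, h2, h3, h4⟩ := h
  have hk : (e.toMonoidHom.comp π).ker = π.ker := by
    ext x
    rw [MonoidHom.mem_ker, MonoidHom.mem_ker, MonoidHom.comp_apply]
    exact map_eq_one_iff _ e.injective
  exact ⟨P, inferInstance, inferInstance, e.toMonoidHom.comp π, ρ, e.surjective.comp h1, by rw [hk]; exact h2, h3,
    by rw [hk]; exact h4⟩

theorem Cv.pr {r : ℕ} (h : Cv T n k) (hr : NoR.{u} r T) : PR k n r T := by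
  obtain ⟨P, _, _, π, ρ, h1, h2, h3, h4⟩ := h
  exact ⟨P, inferInstance, π, ρ, h1, fun x hx y => (Subgroup.mem_center_iff.1 (h2 hx) y).symm, hr P h3 π h1 h2, h4⟩

theorem Cv.ls [Nontrivial T] {r d : ℕ} (h : Cv T n k) (hr : (r : k) ≠ 0) (hl : H203.LS.LS.{v, u, u} r d T) : d ≤ n := by
  obtain ⟨P, _, _, π, ρ, h1, h2, h3, h4⟩ := h
  refine hl P π h1 h2 h3 k hr n ρ ?_
  rintro rfl
  obtain ⟨t, ht⟩ := exists_ne (1 : T)
  obtain ⟨x, rfl⟩ := h1 t
  exact ht (h4 (by simp : x ∈ (1 : P →* Matrix.GeneralLinearGroup (Fin n) k).ker))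

theorem bd_le {r d : ℕ} {T' : Type*} [Group T'] (hb : Bd k r d T') (h : Cv T n k) (e : T ≃* T')
    (hr : NoR.{u} r T') : d ≤ n :=
  hb n ((h.congr e).pr hr)

/-- the characteristic from the order of the field -/
theorem charP_of_pow {K : Type} [Field K] [Fintype K] {l a : ℕ} (hl : l.Prime) (h : Fintype.card K = l ^ a) :
    CharP K l := by
  obtain ⟨c, hc⟩ := CharP.exists K
  obtain ⟨m, hm, hcard⟩ := FiniteField.card K c
  rw [h] at hcard
  have h1 : c ∣ l ^ a := by rw [hcard]; exact dvd_pow_self c m.ne_zero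
  have h3 : c = l := (Nat.prime_dvd_prime_iff_eq hm hl).1 (hm.dvd_of_dvd_pow h1)
  rw [← h3]
  exact hc

theorem two_ne {K : Type} [Field K] [Fintype K] {l : ℕ} [hc : CharP K l] (hl : l.Prime) (h2 : l ≠ 2) : (2 : K) ≠ 0 := by
  intro h
  have h5 : l ∣ 2 := (CharP.cast_eq_zero_iff K l 2).1 (by exact_mod_cast h)
  exact h2 ((Nat.prime_dvd_prime_iff_eq hl Nat.prime_two).1 h5)

section

variable {r a : ℕ}

theorem le_psl (h : Cv T n k) (hr : r.Prime) (h2 : r ≠ 2) (ha : 1 ≤ a) (hrk : (r : k) ≠ 0) {m : ℕ} {K : Type} [Field K]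
    [Fintype K] (hK : Fintype.card K = r ^ a) (hm : 2 ≤ m) (hm2 : m = 2 → 4 ≤ r ^ a)
    (e : T ≃* Matrix.ProjectiveSpecialLinearGroup (Fin m) K) : lo (.L m) (r ^ a) ≤ n := by
  have := charP_of_pow hr hK
  have ho : Odd (r ^ a) := (hr.odd_of_ne_two h2).pow
  have hd : r ∣ Fintype.card K := by rw [hK]; exact dvd_pow_self r (by omega)
  have hno : ¬ (m = 2 ∧ r ^ a = 9) → NoR.{u} r (Matrix.ProjectiveSpecialLinearGroup (Fin m) K) := by
    intro hne
    have hexc : (m, Fintype.card K) ∉ ({(2, 4), (2, 9), (3, 2), (3, 4), (4, 2)} : Set (ℕ × ℕ)) := by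
      rw [hK]
      intro h
      simp only [Set.mem_insert_iff, Set.mem_singleton_iff, Prod.mk.injEq] at h
      rcases h with ⟨h1, h3⟩ | h1 | ⟨h1, h3⟩ | ⟨h1, h3⟩ | ⟨h1, h3⟩
      · rw [h3] at ho; exact absurd ho (by decide)
      · exact hne h1
      · rw [h3] at ho; exact absurd ho (by decide)
      · rw [h3] at ho; exact absurd ho (by decide)
      · rw [h3] at ho; exact absurd ho (by decide)
    exact NoR.of_cyclic (S2086.result (F := K) rfl m hm (fun h => by rw [hK]; exact hm2 h) hexc)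
      (coprime_gcd_sub hr Fintype.card_pos hd)
  by_cases hm' : m = 2
  · subst hm'
    show (if 2 = 2 then (if r ^ a = 9 then 0 else (r ^ a - 1) / 2) else (r ^ a) ^ (2 - 1) - 1) ≤ n
    rw [if_pos rfl]
    split_ifs with h9
    · exact Nat.zero_le _
    · have hpr := (h.congr e).pr (hno (by tauto))
      have h1 := H203.BdSL2.bd_of_sl2 hr hK hrk (QuotientGroup.mk' (Subgroup.center
        (Matrix.SpecialLinearGroup (Fin 2) K))) (by rw [QuotientGroup.ker_mk']) n hpr
      exact le_trans (Nat.div_le_div_left (Nat.gcd_le_left _ (by norm_num)) (Nat.gcd_pos_of_pos_left _ (by norm_num))) h1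
  · show (if m = 2 then (if r ^ a = 9 then 0 else (r ^ a - 1) / 2) else (r ^ a) ^ (m - 1) - 1) ≤ n
    rw [if_neg hm', ← hK]
    exact bd_le (bd_psl (F := k) hr hrk (by omega) inferInstance) h e (hno (by tauto))

theorem le_psu (h : Cv T n k) (hr : r.Prime) (h2 : r ≠ 2) (ha : 1 ≤ a) (hrk : (r : k) ≠ 0) {m : ℕ} {K : Type} [Field K]
    [Fintype K] (hK : Fintype.card K = (r ^ a) ^ 2) (hm : 3 ≤ m) (hm2 : m = 3 → 3 ≤ r ^ a)
    (e : T ≃* PSU m K (r ^ a)) : lo (.U m) (r ^ a) ≤ n := by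
  have := charP_of_pow hr (a := a * 2) (by rw [hK, pow_mul])
  have ho : Odd (r ^ a) := (hr.odd_of_ne_two h2).pow
  show (if m = 4 ∧ r ^ a = 3 then 0 else (r ^ a - 1) * (r ^ a) ^ (m - 2)) ≤ n
  split_ifs with h3
  · exact Nat.zero_le _
  · have hexc : (m, r ^ a) ∉ ({(4, 2), (4, 3), (6, 2)} : Set (ℕ × ℕ)) := by
      intro h
      simp only [Set.mem_insert_iff, Set.mem_singleton_iff, Prod.mk.injEq] at h
      rcases h with ⟨h1, h4⟩ | h1 | ⟨h1, h4⟩
      · rw [h4] at ho; exact absurd ho (by decide)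
      · exact h3 h1
      · rw [h4] at ho; exact absurd ho (by decide)
    have hno : NoR.{u} r (PSU m K (r ^ a)) :=
      NoR.of_cyclic (S2089.result (F := K) m (r ^ a) hK hm (fun h4 => by have := hm2 h4.1; omega) hexc)
        (coprime_gcd_add hr (dvd_pow_self r (by omega)))
    exact H175.BdSU.bd_psu (F := k) hr hK hm hrk e n ((h.congr e).pr hno |>.sub e.toMonoidHom e.injective)

theorem le_psp (h : Cv T n k) (hr : r.Prime) (h2 : r ≠ 2) (ha : 1 ≤ a) (hrk : (r : k) ≠ 0) {m : ℕ} {K : Type} [Field K]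
    [Fintype K] (hK : Fintype.card K = r ^ a) (hm : 2 ≤ m) (hm2 : m = 2 → 3 ≤ r ^ a) (e : T ≃* PSp m K) :
    (r ^ a) ^ m - 1 ≤ 2 * n + 1 := by
  have := charP_of_pow hr hK
  have ho : Odd (r ^ a) := (hr.odd_of_ne_two h2).pow
  have hexc : ¬ (m = 3 ∧ Fintype.card K = 2) := by
    rw [hK]
    rintro ⟨-, h3⟩
    rw [h3] at ho
    exact absurd ho (by decide)
  have hno : NoR.{u} r (PSp m K) := NoR.of_cyclic (S2092.result (F := K) rfl m hm (fun h => by rw [hK]; exact hm2 h) hexc)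
    (coprime_gcd_sub hr Fintype.card_pos (by rw [hK]; exact dvd_pow_self r (by omega)))
  have h1 : ((r ^ a) ^ m - 1) / 2 ≤ n :=
    H175.BdSp.bd_psp (F := k) hr hK (by omega) hrk e n ((h.congr e).pr hno |>.sub e.toMonoidHom e.injective)
  omega

theorem le_oodd (h : Cv T n k) (hr : r.Prime) (h2 : r ≠ 2) (hrk : (r : k) ≠ 0) {m : ℕ} {K : Type} [Field K]
    [Fintype K] (hK : Fintype.card K = r ^ a) (hm : 3 ≤ m) (e : T ≃* POmega K (quadFormOdd m K)) :
    (m = 3 ∧ r ^ a = 3) ∨ (r ^ a - 1) * (r ^ a) ^ (2 * m - 3) ≤ n := by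
  have := charP_of_pow hr hK
  have ho : Odd (r ^ a) := (hr.odd_of_ne_two h2).pow
  by_cases h3 : m = 3 ∧ r ^ a = 3
  · exact Or.inl h3
  · right
    have hexc : ¬ (m = 3 ∧ Fintype.card K = 3) := by rw [hK]; exact h3
    have hodd : Odd (Fintype.card K) := by rw [hK]; exact ho
    have hno : NoR.{u} r (POmega K (quadFormOdd m K)) := by
      refine NoR.of_cyclic (S2094.result (F := K) rfl hodd m hm hexc) ?_
      rw [Nat.coprime_two_left]
      exact hr.odd_of_ne_two h2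
    have h5 := bd_le (H203.OrthHeis.bd_pomega_odd_heis (F := k) hr hrk hK (two_ne hr h2) hm) h e hno
    rwa [hK] at h5

theorem le_oplus (h : Cv T n k) (hr : r.Prime) (h2 : r ≠ 2) (ha : 1 ≤ a) (hrk : (r : k) ≠ 0) {m : ℕ} {K : Type} [Field K]
    [Fintype K] (hK : Fintype.card K = r ^ a) (hm : 4 ≤ m) (e : T ≃* POmega K (quadFormPlus m K)) :
    lo (.D m) (r ^ a) ≤ n := by
  have := charP_of_pow hr hK
  have ho : Odd (r ^ a) := (hr.odd_of_ne_two h2).pow
  have hd : r ∣ Fintype.card K := by rw [hK]; exact dvd_pow_self r (by omega)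
  have hdm : r ∣ Fintype.card K ^ m := dvd_pow hd (by omega)
  have hpos : 0 < Fintype.card K ^ m := pow_pos Fintype.card_pos _
  have hno : NoR.{u} r (POmega K (quadFormPlus m K)) := by
    rcases Nat.even_or_odd m with hev | hod
    · have hexc : ¬ (m = 4 ∧ Fintype.card K = 2) := by
        rw [hK]
        rintro ⟨-, h3⟩
        rw [h3] at ho
        exact absurd ho (by decide)
      refine NoR.of_mult (S2097.result (F := K) rfl m hm hev hexc) ?_
      rw [Nat.card_congr Multiplicative.toAdd, Nat.card_prod, Nat.card_zmod]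
      have h1 : (Nat.gcd 2 (Fintype.card K ^ m - 1)).Coprime r := coprime_gcd_sub hr hpos hdm
      exact Nat.Coprime.mul_left h1 h1
    · have h5 : 5 ≤ m := by
        by_contra hcon
        have h4 : m = 4 := by omega
        rw [h4] at hod
        exact absurd hod (by decide)
      exact NoR.of_cyclic (S2096.result (F := K) rfl m h5 hod) (coprime_gcd_sub hr hpos hdm)
  have h5 := bd_le (H203.OrthHeis.bd_pomega_plus_heis (F := k) hr hrk hK hm) h e hno
  rwa [hK] at h5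

theorem le_ominus (h : Cv T n k) (hr : r.Prime) (ha : 1 ≤ a) (hrk : (r : k) ≠ 0) {m : ℕ} {K : Type}
    [Field K] [Fintype K] (hK : Fintype.card K = r ^ a) (hm : 4 ≤ m) (b c : K)
    (hbc : ∀ z₁ z₂ : K, z₁ ^ 2 + b * z₁ * z₂ + c * z₂ ^ 2 = 0 → z₁ = 0 ∧ z₂ = 0)
    (e : T ≃* POmega K (quadFormMinus (m - 1) K b c)) : lo (.DD m) (r ^ a) ≤ n := by
  have := charP_of_pow hr hK
  have hd : r ∣ Fintype.card K := by rw [hK]; exact dvd_pow_self r (by omega)
  have hdm : r ∣ Fintype.card K ^ m := dvd_pow hd (by omega)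
  have hno : NoR.{u} r (POmega K (quadFormMinus (m - 1) K b c)) :=
    NoR.of_cyclic (S2099.result (F := K) rfl m hm b c hbc) (coprime_gcd_add hr hdm)
  have h5 := bd_le (H203.OrthHeis.bd_pomega_minus_heis (F := k) hr hrk hK hm hbc) h e hno
  rwa [hK] at h5

end

section

variable {r a : ℕ} [Nontrivial T]

theorem le_ls {K : Type} [Field K] [Fintype K] {d : ℕ} {T' : Type} [Group T'] (h : Cv T n k) (hrk : (r : k) ≠ 0)
    (hl : H203.LS.LS.{0, u, u} r d T') (e : T ≃* T') : d ≤ n :=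
  h.ls hrk (hl.congr e.symm)

/-- **The degree bound.** -/
theorem lo_le (h : Cv T n k) {g : Grp} {X : Art.Sh} (hg : IsLie g X r a) (hT : OrdDiv.Real g T)
    (hR : Art.Real X r a (Nat.card T)) (h2 : r ≠ 2) (hrk : (r : k) ≠ 0) : lo X (r ^ a) ≤ n := by
  obtain ⟨hr, ha, hok, -⟩ := hR
  cases hg with
  | psl m p f =>
    obtain ⟨K, _, _, hK, ⟨e⟩⟩ := hT
    exact le_psl h hr h2 ha hrk hK hok.1 hok.2 e
  | psp m p f =>
    obtain ⟨K, _, _, hK, ⟨e⟩⟩ := hT
    have h1 := le_psp h hr h2 ha hrk hK hok.1 hok.2 e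
    show (if m = 3 ∧ r ^ a = 3 then 0 else ((r ^ a) ^ m - 1) / 2) ≤ n
    split_ifs
    · exact Nat.zero_le _
    · omega
  | oodd m p f hm ho =>
    obtain ⟨K, _, _, hK, ⟨e⟩⟩ := hT
    have h1 := le_oodd h hr h2 hrk hK hm e
    show (if m = 3 ∧ r ^ a = 3 then 0 else ((r ^ a) ^ m - 1) / 2) ≤ n
    split_ifs with h3
    · exact Nat.zero_le _
    · rcases h1 with h1 | h1
      · exact absurd h1 h3
      · have h3' : 3 ≤ r ^ a := by
          have := hr.two_le
          have h4 : 3 ≤ r := by omega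
          exact h4.trans (Nat.le_self_pow (by omega) r)
        have h4 : (r ^ a) ^ m ≤ (r ^ a) ^ (2 * m - 3) := Nat.pow_le_pow_right (by omega) (by omega)
        have h5 : 1 * (r ^ a) ^ (2 * m - 3) ≤ (r ^ a - 1) * (r ^ a) ^ (2 * m - 3) :=
          Nat.mul_le_mul_right _ (by omega)
        omega
  | psu m p f =>
    obtain ⟨K, _, _, hK, ⟨e⟩⟩ := hT
    exact le_psu h hr h2 ha hrk hK hok.1 hok.2 e
  | oplus m p f =>
    obtain ⟨K, _, _, hK, ⟨e⟩⟩ := hT
    exact le_oplus h hr h2 ha hrk hK hok e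
  | ominus m p f =>
    obtain ⟨K, _, _, b, c, hK, hab, ⟨e⟩⟩ := hT
    exact le_ominus h hr ha hrk hK hok b c hab e
  | g2 p f =>
    obtain ⟨K, _, _, hK, ⟨e⟩⟩ := hT
    have hc := charP_of_pow hr hK
    have ho : Odd (r ^ a) := (hr.odd_of_ne_two h2).pow
    have h5 := h.ls (r := r) hrk ((H203.LS.G2.ls.{0, u, u} K
      (by rw [Nat.card_eq_fintype_card, hK]; rintro h; rw [h] at ho; exact absurd ho (by decide))
      (by rw [Nat.card_eq_fintype_card, hK]; rintro h; rw [h] at ho; exact absurd ho (by decide))).congr e.symm)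
    rwa [Nat.card_eq_fintype_card, hK] at h5
  | f4 p f =>
    obtain ⟨K, _, _, hK, ⟨e⟩⟩ := hT
    have hc := charP_of_pow hr hK
    have h5 := h.ls (r := r) hrk ((H203.LS.F4odd.ls_odd.{0, u, u} K (two_ne hr h2)).congr e.symm)
    rwa [Nat.card_eq_fintype_card, hK] at h5
  | e6 p f =>
    obtain ⟨K, _, _, hK, ⟨e⟩⟩ := hT
    have hc := charP_of_pow hr hK
    have h5 := h.ls (r := r) hrk ((H203.LS.E6.ls.{0, u, u} K).congr e.symm)
    rwa [Nat.card_eq_fintype_card, hK] at h5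
  | e7 p f =>
    obtain ⟨K, _, _, hK, ⟨e⟩⟩ := hT
    have hc := charP_of_pow hr hK
    have h5 := h.ls (r := r) hrk ((H203.LS.E7.ls.{0, u, u} K).congr e.symm)
    rwa [Nat.card_eq_fintype_card, hK] at h5
  | e8 p f =>
    obtain ⟨K, _, _, hK, ⟨e⟩⟩ := hT
    have hc := charP_of_pow hr hK
    have h5 := h.ls (r := r) hrk ((H203.LS.E8.ls.{0, u, u} K).congr e.symm)
    rwa [Nat.card_eq_fintype_card, hK] at h5
  | te6 p f =>
    obtain ⟨K, _, _, hK, ⟨e⟩⟩ := hT
    have hc := charP_of_pow hr (a := a * 2) (by rw [hK, pow_mul])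
    exact h.ls (r := r) hrk ((H203.LS.TwE6.ls.{0, u, u} (hr.isPrimePow.pow (by omega)) hK).congr e.symm)
  | td4 p f =>
    obtain ⟨K, _, _, hK, ⟨e⟩⟩ := hT
    have hc := charP_of_pow hr (a := a * 3) (by rw [hK, pow_mul])
    exact h.ls (r := r) hrk ((H203.LS.TwD4.ls.{0, u, u} (hr.isPrimePow.pow (by omega)) hK).congr e.symm)
  | sz p f => exact Nat.zero_le _
  | ree p f =>
    obtain ⟨K, _, _, m, hm, hK, hq, ⟨e⟩⟩ := hT
    obtain ⟨rfl, -, -⟩ := hok
    rw [hq] at hK ⊢
    have h5 := h.ls (r := 3) (by exact_mod_cast hrk) ((H203.LS.LS.ree.{0, u, u} hm hK).congr e.symm)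
    rwa [Nat.card_eq_fintype_card, hK] at h5
  | tf4 p f => exact Nat.zero_le _

end

end Cfsg.Agent.H418.NN
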