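import Mathlib
import Cfsg.Agent.H418.NN.Lo

/-!
# Box (N): the numbers (helper418)

`not_dvd` : if the bound `lo X q` is at most `d` then `2 ^ e` does not divide `24 f num X q`, `q = p ^ f`, for
`(d, e) = (248, 30), (133, 23), (78, 17), (52, 15)`, the last two except for the shape `C 4` over the field of three elements.
-/

set_option autoImplicit false

namespace Cfsg.Agent.H418.NN

open Cfsg Cfsg.Agent.H902

/-- the shapes -/
def shapes : List Art.Sh := [.L 2, .L 3, .L 4, .L 5, .L 6, .C 2, .C 3, .C 4, .C 5, .U 3, .U 4, .U 5, .U 6, .D 4, .DD 4,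
  .G2, .F4, .E6, .E7, .E8, .TE6, .TD4, .Ree]

/-- the check -/
def chk (d e : ℕ) (ex : Bool) : Bool := shapes.all fun X => (List.range 500).all fun p => (List.range 6).all fun f =>
  Nat.beq (p % 2) 0 || Nat.blt p 3 || Nat.beq f 0 || Nat.blt 498 (p ^ f) || Nat.blt d (lo X (p ^ f)) ||
    (ex && decide (X = .C 4) && Nat.beq (p ^ f) 3) || !(Nat.beq ((24 * f * Art.num X (p ^ f)) % 2 ^ e) 0)

set_option maxRecDepth 100000 in
theorem chk1 : chk 248 30 false = true := by decide +kernel

set_option maxRecDepth 100000 in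
theorem chk2 : chk 133 23 false = true := by decide +kernel

set_option maxRecDepth 100000 in
theorem chk3 : chk 78 17 true = true := by decide +kernel

set_option maxRecDepth 100000 in
theorem chk4 : chk 52 15 true = true := by decide +kernel

theorem exp_le {q k : ℕ} (hq : 3 ≤ q) {N j : ℕ} (h : q ^ k ≤ N) (hN : N < 3 ^ (j + 1)) : k ≤ j := by
  by_contra hcon
  have h1 : 3 ^ (j + 1) ≤ q ^ k := (Nat.pow_le_pow_left hq _).trans (Nat.pow_le_pow_right (by omega) (by omega))
  omega

theorem pow_le_of {q k a : ℕ} (hq : 3 ≤ q) (h : (q - 1) * q ^ k ≤ a) : 2 * q ^ k ≤ a :=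
  (Nat.mul_le_mul_right _ (by omega)).trans h

theorem q_le {q k a : ℕ} (hq : 3 ≤ q) (h : (q - 1) * q ^ k ≤ a) : q ≤ a + 1 := by
  have h1 : 1 ≤ q ^ k := Nat.one_le_pow _ _ (by omega)
  have h2 : (q - 1) * 1 ≤ (q - 1) * q ^ k := Nat.mul_le_mul_left _ h1
  omega

theorem mem_shapes {X : Art.Sh} {p f : ℕ} (hok : Art.Ok X p f) (hp : 3 ≤ p) (hf : 1 ≤ f) (h : lo X (p ^ f) ≤ 248) :
    X ∈ shapes ∧ p ^ f ≤ 498 := by
  have hq : 3 ≤ p ^ f := hp.trans (Nat.le_self_pow (by omega) p)
  cases X with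
  | L n =>
    obtain ⟨h2, -⟩ := hok
    change (if n = 2 then (if p ^ f = 9 then 0 else (p ^ f - 1) / 2) else (p ^ f) ^ (n - 1) - 1) ≤ 248 at h
    split_ifs at h with h3 h4
    · subst h3
      exact ⟨by decide, by omega⟩
    · subst h3
      exact ⟨by decide, by omega⟩
    · have h5 := exp_le (j := 5) hq (show (p ^ f) ^ (n - 1) ≤ 249 by omega) (by norm_num)
      have h6 : p ^ f ≤ (p ^ f) ^ (n - 1) := Nat.le_self_pow (by omega) _
      refine ⟨?_, by omega⟩
      have : n ≤ 6 := by omega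
      interval_cases n <;> first | omega | decide
  | C m =>
    obtain ⟨h2, -⟩ := hok
    change (if m = 3 ∧ p ^ f = 3 then 0 else ((p ^ f) ^ m - 1) / 2) ≤ 248 at h
    split_ifs at h with h3
    · obtain ⟨rfl, h4⟩ := h3
      exact ⟨by decide, by omega⟩
    · have h5 := exp_le (j := 5) hq (show (p ^ f) ^ m ≤ 498 by omega) (by norm_num)
      have h6 : p ^ f ≤ (p ^ f) ^ m := Nat.le_self_pow (by omega) _
      refine ⟨?_, by omega⟩
      interval_cases m <;> first | omega | decide
  | U n =>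
    obtain ⟨h2, -⟩ := hok
    change (if n = 4 ∧ p ^ f = 3 then 0 else (p ^ f - 1) * (p ^ f) ^ (n - 2)) ≤ 248 at h
    split_ifs at h with h3
    · obtain ⟨rfl, h4⟩ := h3
      exact ⟨by decide, by omega⟩
    · have h4 := pow_le_of hq h
      have h5 := exp_le (j := 4) hq (show (p ^ f) ^ (n - 2) ≤ 124 by omega) (by norm_num)
      have h6 := q_le hq h
      refine ⟨?_, by omega⟩
      have : n ≤ 6 := by omega
      interval_cases n <;> first | omega | decide
  | D m =>
    have h2 : 4 ≤ m := hok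
    change (p ^ f - 1) * (p ^ f) ^ (2 * m - 4) ≤ 248 at h
    have h4 := pow_le_of hq h
    have h5 := exp_le (j := 4) hq (show (p ^ f) ^ (2 * m - 4) ≤ 124 by omega) (by norm_num)
    have h6 := q_le hq h
    have : m = 4 := by omega
    subst this
    exact ⟨by decide, by omega⟩
  | DD m =>
    have h2 : 4 ≤ m := hok
    change (p ^ f - 1) * (p ^ f) ^ (2 * m - 4) ≤ 248 at h
    have h4 := pow_le_of hq h
    have h5 := exp_le (j := 4) hq (show (p ^ f) ^ (2 * m - 4) ≤ 124 by omega) (by norm_num)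
    have h6 := q_le hq h
    have : m = 4 := by omega
    subst this
    exact ⟨by decide, by omega⟩
  | G2 =>
    change (p ^ f - 1) * p ^ f ≤ 248 at h
    have h6 := q_le (k := 1) (a := 248) hq (by rw [pow_one]; exact h)
    exact ⟨by decide, by omega⟩
  | F4 => exact ⟨by decide, by have := q_le hq h; omega⟩
  | E6 => exact ⟨by decide, by have := q_le hq h; omega⟩
  | E7 => exact ⟨by decide, by have := q_le hq h; omega⟩
  | E8 => exact ⟨by decide, by have := q_le hq h; omega⟩
  | TE6 => exact ⟨by decide, by have := q_le hq h; omega⟩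
  | TD4 => exact ⟨by decide, by have := q_le hq h; omega⟩
  | Sz =>
    have h2 : p = 2 := hok.1
    omega
  | Ree =>
    change p ^ f - 1 ≤ 248 at h
    exact ⟨by decide, by omega⟩
  | TF4 =>
    have h2 : p = 2 := hok.1
    omega

theorem of_chk {d e : ℕ} {ex : Bool} (h : chk d e ex = true) (hd : d ≤ 248) {X : Art.Sh} {p f : ℕ}
    (hok : Art.Ok X p f) (hp : 3 ≤ p) (hodd : p % 2 = 1) (hf : 1 ≤ f) (hlo : lo X (p ^ f) ≤ d)
    (hex : ex = true → ¬ (X = .C 4 ∧ p ^ f = 3)) : ¬ 2 ^ e ∣ 24 * f * Art.num X (p ^ f) := by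
  obtain ⟨hX, hq⟩ := mem_shapes hok hp hf (hlo.trans hd)
  have hp5 : p < 500 := by
    have := Nat.le_self_pow (show f ≠ 0 by omega) p
    omega
  have hf5 : f < 6 := by
    have := exp_le (j := 5) hp hq (by norm_num)
    omega
  unfold chk at h
  rw [List.all_eq_true] at h
  have h1 := h X hX
  rw [List.all_eq_true] at h1
  have h2 := h1 p (List.mem_range.2 hp5)
  rw [List.all_eq_true] at h2
  have h3 := h2 f (List.mem_range.2 hf5)
  intro hdvd
  have h4 : (24 * f * Art.num X (p ^ f)) % 2 ^ e = 0 := Nat.mod_eq_zero_of_dvd hdvd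
  rw [h4] at h3
  simp only [Bool.or_eq_true, Bool.and_eq_true, Nat.beq_eq, Nat.blt_eq, decide_eq_true_eq, Bool.not_eq_true',
    Nat.beq_refl, Bool.true_eq_false, or_false] at h3
  rcases h3 with ((((h3 | h3) | h3) | h3) | h3) | ⟨⟨h3, h5⟩, h6⟩
  · omega
  · omega
  · omega
  · omega
  · omega
  · exact hex h3 ⟨h5, h6⟩

end Cfsg.Agent.H418.NN
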