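import Mathlib
import Cfsg.Agent.H418.NN.Num
import Cfsg.Agent.H364.OutLie
import Cfsg.Agent.H364.LieNam
import Cfsg.Agent.S2060
import Cfsg.Agent.S2061

/-!
# Box (N): the `2`-part of the order of the automorphism group (helper418)

`aut_248`, `aut_133`, `aut_78`, `aut_52`: `T` simple of Lie type in odd characteristic, or `M11`, `M12`, `PSp6(2)`, `PΩ8+(2)`.
-/

set_option autoImplicit false

namespace Cfsg.Agent.H418.NN

open Cfsg Cfsg.Agent.OrdDiv Cfsg.Agent.H902 Cfsg.Agent.H902.Names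

universe u v

/-- the simple groups of the conclusion of the quaternion subnormal subgroup theorem -/
def Qs (T : Type v) [Group T] : Prop :=
  (∃ r : ℕ, r.Prime ∧ r ≠ 2 ∧ IsLieTypeChar r T) ∨ Spor.IsoM11 T ∨ Spor.IsoM12 T ∨
    (∃ (F : Type) (_ : Field F) (_ : Fintype F), Fintype.card F = 2 ∧
      (Nonempty (T ≃* Cfsg.PSp 3 F) ∨ Nonempty (T ≃* Cfsg.POmega F (Cfsg.quadFormPlus 4 F))))

section

variable {T : Type v} [Group T] [Finite T] [IsSimpleGroup T]

theorem card_mulAut_dvd (hna : ¬ IsMulCommutative T) {g : Grp} {X : Art.Sh} {p f : ℕ} (hg : IsLie g X p f)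
    (hT : OrdDiv.Real g T) (hR : Art.Real X p f (Nat.card T)) :
    Nat.card (MulAut T) ∣ 24 * f * ((p ^ f) ^ Art.NN X * Art.num X (p ^ f)) := by
  obtain ⟨c, hc1, hc2, -⟩ := H364.OutLie.card_out (fun h => hna ⟨⟨h⟩⟩) hg hT hR
  rw [← H934.OutB.card_out_mul T hna, hc1, ← hR.eq,
    show 24 * f * (Art.dd X (p ^ f) * Nat.card T) = (24 * Art.dd X (p ^ f)) * f * Nat.card T by ring]
  exact Nat.mul_dvd_mul_right (Nat.mul_dvd_mul_right hc2 _) _

theorem not_dvd_of_odd {p f e M N : ℕ} {k : ℕ} (hp : p.Prime) (h2 : p ≠ 2) (hd : M ∣ k * ((p ^ f) ^ N * e)) {j : ℕ}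
    (h : ¬ 2 ^ j ∣ k * e) : ¬ 2 ^ j ∣ M := by
  intro h1
  apply h
  have h3 : (2 ^ j).Coprime ((p ^ f) ^ N) :=
    Nat.Coprime.pow _ _ (Nat.Coprime.pow_right _ ((Nat.coprime_primes Nat.prime_two hp).2 (fun h => h2 h.symm)))
  have h4 : 2 ^ j ∣ (p ^ f) ^ N * (k * e) := by
    have := h1.trans hd
    rwa [show k * ((p ^ f) ^ N * e) = (p ^ f) ^ N * (k * e) by ring] at this
  exact h3.dvd_of_dvd_mul_left h4

theorem not_dvd_lie (hna : ¬ IsMulCommutative T) {g : Grp} {X : Art.Sh} {p f : ℕ} (hg : IsLie g X p f)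
    (hT : OrdDiv.Real g T) (hR : Art.Real X p f (Nat.card T)) (h2 : p ≠ 2) {d e : ℕ} {ex : Bool}
    (h : chk d e ex = true) (hd : d ≤ 248) (hlo : lo X (p ^ f) ≤ d)
    (hex : ex = true → ¬ (X = .C 4 ∧ p ^ f = 3)) : ¬ 2 ^ e ∣ Nat.card (MulAut T) := by
  obtain ⟨hp, hf, hok, -⟩ := id hR
  have h3 : 3 ≤ p := by have := hp.two_le; omega
  exact not_dvd_of_odd hp h2 (card_mulAut_dvd hna hg hT hR)
    (of_chk h hd hok h3 (Nat.odd_iff.1 (hp.odd_of_ne_two h2)) hf hlo hex)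

/-- `PSp8(3)` and `Ω9(3)`: the `2`-part is `2 ^ 15` -/
theorem not_dvd_c4 {g : Grp} {p f : ℕ} (hg : IsLie g (.C 4) p f)
    (hT : OrdDiv.Real g T) (hR : Art.Real (.C 4) p f (Nat.card T)) (hq : p ^ f = 3) :
    ¬ 2 ^ 16 ∣ Nat.card (MulAut T) := by
  have hf1 : p = 3 ∧ f = 1 := by
    obtain ⟨hp, hf, -, -⟩ := hR
    have h1 : p ∣ 3 := by rw [← hq]; exact dvd_pow_self p (by omega)
    have h2 : p = 3 := (Nat.prime_dvd_prime_iff_eq hp Nat.prime_three).1 h1
    subst h2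
    refine ⟨rfl, ?_⟩
    exact Nat.pow_right_injective (show 2 ≤ 3 by norm_num) (by simpa using hq)
  obtain ⟨rfl, rfl⟩ := hf1
  have : Fact (Nat.Prime 3) := ⟨Nat.prime_three⟩
  have heq := hR.eq
  have hdd : Art.dd (.C 4) (3 ^ 1) = 2 := by decide
  have hnum : Art.num (.C 4) (3 ^ 1) = 8 * 80 * 728 * 6560 := by decide +kernel
  have hcard : Nat.card (MulAut T) = 2 * Nat.card T := by
    cases hg with
    | psp m p f =>
      obtain ⟨K, _, _, hK, ⟨e⟩⟩ := hT
      have h1 := Cfsg.Agent.S0814.result 3 1 le_rfl hK 4 (by norm_num) (by norm_num)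
      rw [Nat.card_congr (MulAut.congr e).toEquiv, h1, Nat.card_congr e.toEquiv]
      norm_num
    | oodd m p f hm ho =>
      obtain ⟨K, _, _, hK, ⟨e⟩⟩ := hT
      have h1 := Cfsg.Agent.S0816.result 3 1 le_rfl hK (by decide) 4 (by norm_num)
      rw [Nat.card_congr (MulAut.congr e).toEquiv, h1, Nat.card_congr e.toEquiv]
  rw [hdd] at heq
  rw [hcard, heq]
  rw [hnum]
  intro h
  have h3 : (2 ^ 16).Coprime ((3 ^ 1) ^ Art.NN (.C 4)) := by
    rw [pow_one]
    exact Nat.Coprime.pow _ _ (by norm_num)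
  have := h3.dvd_of_dvd_mul_left h
  revert this
  norm_num

/-- `M11`, `M12`, `PSp6(2)`, `PΩ8+(2)` -/
theorem not_dvd_small (tb : OrderTable.{v}) (hna : ¬ IsMulCommutative T) (h : Spor.IsoM11 T ∨ Spor.IsoM12 T ∨
    (∃ (F : Type) (_ : Field F) (_ : Fintype F), Fintype.card F = 2 ∧
      (Nonempty (T ≃* Cfsg.PSp 3 F) ∨ Nonempty (T ≃* Cfsg.POmega F (Cfsg.quadFormPlus 4 F))))) :
    ¬ 2 ^ 15 ∣ Nat.card (MulAut T) := by
  have : Fact (Nat.Prime 2) := ⟨Nat.prime_two⟩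
  rcases h with h | h | ⟨F, _, _, hF, h | h⟩
  · have h1 : Nat.card T = 7920 := tb.spor T (.m11, 7920) (by decide) h
    obtain ⟨e⟩ := h
    have h2 : Nat.card (Cfsg.Out T) = 1 := by
      rw [← S2060.result]
      exact H934.OutB.card_out_congr e
    rw [← H934.OutB.card_out_mul T hna, h1, h2]
    norm_num
  · have h1 : Nat.card T = 95040 := tb.spor T (.m12, 95040) (by decide) h
    obtain ⟨e⟩ := h
    have h2 : Nat.card (Cfsg.Out T) = 2 := by
      rw [← S2061.result]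
      exact H934.OutB.card_out_congr e
    rw [← H934.OutB.card_out_mul T hna, h1, h2]
    norm_num
  · obtain ⟨e⟩ := h
    have h1 := Cfsg.Agent.S0814.result 2 1 le_rfl (F := F) (by rw [hF]; norm_num) 3 (by norm_num) (by norm_num)
    have h3 := (psp_real (F := F) (m := 3) Nat.prime_two le_rfl (by rw [hF]; norm_num) (by norm_num)
      (by norm_num)).eq
    rw [Nat.card_congr (MulAut.congr e).toEquiv, h1]
    have hnum : Art.num (.C 3) (2 ^ 1) = 3 * 15 * 63 := by decide +kernel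
    have hdd : Art.dd (.C 3) (2 ^ 1) = 1 := by decide
    have hNN : Art.NN (.C 3) = 9 := rfl
    rw [hnum, hdd, hNN, one_mul] at h3
    rw [h3]
    norm_num
  · obtain ⟨e⟩ := h
    have h1 := Cfsg.Agent.S0817.result 2 1 le_rfl (F := F) (by rw [hF]; norm_num) 4 (by norm_num)
    have h3 := (oplus_real (F := F) (m := 4) Nat.prime_two le_rfl (by rw [hF]; norm_num) (by norm_num)).eq
    rw [Nat.card_congr (MulAut.congr e).toEquiv, h1]
    have hnum : Art.num (.D 4) (2 ^ 1) = 15 * (3 * 15 * 63) := by decide +kernel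
    have hdd : Art.dd (.D 4) (2 ^ 1) = 1 := by decide
    have hNN : Art.NN (.D 4) = 12 := rfl
    rw [hnum, hdd, hNN, one_mul] at h3
    rw [h3]
    norm_num

end

end Cfsg.Agent.H418.NN
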