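import Mathlib
import Cfsg.Agent.H418.NN.Aut
import Cfsg.Agent.H902.Facts
import Cfsg.Prelude.Def_CaseTheorems

/-!
# Box (N): quasisimple linear groups in coprime characteristic and the `2`-part of the automorphism group (helper418)

`K` quasisimple, `K / Z(K)` of Lie type in odd characteristic or `M11`, `M12`, `PSp6(2)`, `PΩ8+(2)`, with a
representation of degree `n`, with central kernel, over a field whose characteristic does not divide `|K|`;
`A := MulAut (K ⧸ Z(K))`:
* `n ≤ 248` : `¬ 2 ^ 30 ∣ |A|`;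
* `n ≤ 133` : `¬ 2 ^ 23 ∣ |A|`;
* `n ≤ 78` : `¬ 2 ^ 17 ∣ |A|`;
* `n ≤ 52` : `¬ 2 ^ 15 ∣ |A|`, or `K / Z(K) ≅ PSp8(3)`.
-/

set_option autoImplicit false

namespace Cfsg.Agent.H418.NN

open Cfsg Cfsg.Agent.OrdDiv Cfsg.Agent.H902 Cfsg.Agent.H902.Names

universe u v

theorem dvd_of_real {X : Art.Sh} {p f M : ℕ} (h : Art.Real X p f M) : p ∣ M := by
  have h1 : p ∣ Art.dd X (p ^ f) * M := by
    rw [h.eq]
    refine Dvd.dvd.mul_right ?_ _
    refine dvd_pow (dvd_pow_self p (by have := h.hf; omega)) ?_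
    have hok := h.ok
    cases X with
    | L n =>
      have h2 : 2 ≤ n := hok.1
      have h3 : 2 * 1 ≤ n * (n - 1) := Nat.mul_le_mul h2 (by omega)
      change n * (n - 1) / 2 ≠ 0
      omega
    | C m =>
      have h2 : 2 ≤ m := hok.1
      exact pow_ne_zero 2 (by omega)
    | U n =>
      have h2 : 3 ≤ n := hok.1
      have h3 : 3 * 2 ≤ n * (n - 1) := Nat.mul_le_mul h2 (by omega)
      change n * (n - 1) / 2 ≠ 0
      omega
    | D m =>
      have h2 : 4 ≤ m := hok
      exact Nat.mul_ne_zero (by omega) (by omega)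
    | DD m =>
      have h2 : 4 ≤ m := hok
      exact Nat.mul_ne_zero (by omega) (by omega)
    | _ => decide
  rcases h.hp.dvd_mul.1 h1 with h2 | h2
  · exact absurd h2 h.not_dvd_dd
  · exact h2

variable {K : Type u} [Group K] [Finite K] {k : Type v} [Field k] {n : ℕ}

theorem cv_of (hK : IsQuasisimple K) (ρ : K →* Matrix.GeneralLinearGroup (Fin n) k) (hρ : Function.Injective ρ) :
    Cv (K ⧸ Subgroup.center K) n k := by
  let e : K ≃* ρ.range := MonoidHom.ofInjective hρ
  have hker : ∀ x : ρ.range, ((QuotientGroup.mk' (Subgroup.center K)).comp e.symm.toMonoidHom) x = 1 ↔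
      e.symm x ∈ Subgroup.center K := fun x => QuotientGroup.eq_one_iff _
  have hfin : Finite ρ.range := Finite.of_equiv K e.toEquiv
  have htop : e.toMonoidHom.range = ⊤ := MonoidHom.range_eq_top.2 e.surjective
  refine ⟨ρ.range, inferInstance, hfin, (QuotientGroup.mk' (Subgroup.center K)).comp e.symm.toMonoidHom,
    ρ.range.subtype, (QuotientGroup.mk'_surjective _).comp e.symm.surjective, ?_, ?_, ?_⟩
  · intro x hx
    have h1 := (hker x).1 hx
    rw [Subgroup.mem_center_iff] at h1 ⊢
    intro y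
    apply e.symm.injective
    rw [map_mul, map_mul]
    exact h1 (e.symm y)
  · have h2 := hK.1.commutator_eq_top
    have h3 : (commutator K).map e.toMonoidHom = commutator ρ.range := by
      rw [commutator_def, commutator_def, Subgroup.map_commutator, ← MonoidHom.range_eq_map, htop]
    rw [← h3, h2, ← MonoidHom.range_eq_map, htop]
  · rw [(MonoidHom.ker_eq_bot_iff _).2 ρ.range.subtype_injective]
    exact bot_le

/-- `PSp8(3)` -/
def IsSp83 (T : Type u) [Group T] : Prop :=
  ∃ (F : Type) (_ : Field F) (_ : Fintype F), Fintype.card F = 3 ∧ Nonempty (T ≃* Cfsg.PSp 4 F)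

theorem nonab (hK : IsQuasisimple K) : ¬ IsMulCommutative (K ⧸ Subgroup.center K) := by
  intro hc
  have hs := hK.2
  have h1 : commutator (K ⧸ Subgroup.center K) = ⊤ := by
    have h2 := hK.1.commutator_eq_top
    have h3 : (commutator K).map (QuotientGroup.mk' (Subgroup.center K)) = commutator (K ⧸ Subgroup.center K) := by
      rw [commutator_def, commutator_def, Subgroup.map_commutator, ← MonoidHom.range_eq_map,
        MonoidHom.range_eq_top.2 (QuotientGroup.mk'_surjective _)]
    rw [← h3, h2, ← MonoidHom.range_eq_map, MonoidHom.range_eq_top.2 (QuotientGroup.mk'_surjective _)]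
  have h4 : commutator (K ⧸ Subgroup.center K) = ⊥ := by
    rw [commutator_def, Subgroup.commutator_eq_bot_iff_le_centralizer]
    intro x _
    rw [Subgroup.mem_centralizer_iff]
    intro y _
    exact hc.is_comm.comm y x
  have h5 : Nontrivial (K ⧸ Subgroup.center K) := hs.toNontrivial
  exact bot_ne_top (h4.symm.trans h1)

theorem main_aux (tb : OrderTable.{u}) (hK : IsQuasisimple K) (hQ : Qs (K ⧸ Subgroup.center K)) {p : ℕ} [CharP k p]
    (hp : ¬ p ∣ Nat.card K) (ρ : K →* Matrix.GeneralLinearGroup (Fin n) k) (hρ : Function.Injective ρ)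
    {d e : ℕ} {ex : Bool} (hc : chk d e ex = true) (hd : d ≤ 248) (hn : n ≤ d) (he : 15 ≤ e)
    (hex : ex = true → 17 ≤ e ∨ d ≤ 100) :
    ¬ 2 ^ e ∣ Nat.card (MulAut (K ⧸ Subgroup.center K)) ∨ (IsSp83 (K ⧸ Subgroup.center K) ∧ ex = true ∧ e ≤ 16) := by
  have hs := hK.2
  have hcv := cv_of hK ρ hρ
  have hna := nonab hK
  rcases hQ with ⟨r, hr, hr2, hL⟩ | hQ
  · obtain ⟨g, X, f, hg, hT, hR⟩ := H364.LieNam.lie_nam tb hr hL
    have hrk : (r : k) ≠ 0 := by
      intro h0
      have h1 : p ∣ r := (CharP.cast_eq_zero_iff k p r).1 h0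
      have h2 : r ∣ Nat.card K := (dvd_of_real hR).trans (Subgroup.card_quotient_dvd_card _)
      exact hp (h1.trans h2)
    have hlo := lo_le hcv hg hT hR hr2 hrk
    by_cases hexc : ex = true ∧ X = .C 4 ∧ r ^ f = 3
    · obtain ⟨hext, rfl, hq⟩ := hexc
      have h16 := not_dvd_c4 hg hT hR hq
      by_cases h17 : 17 ≤ e
      · left
        exact fun h => h16 ((pow_dvd_pow 2 (by omega)).trans h)
      · cases hg with
        | psp m p f =>
          obtain ⟨F, _, _, hF, ⟨e'⟩⟩ := hT
          right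
          exact ⟨⟨F, inferInstance, inferInstance, hF.trans hq, ⟨e'⟩⟩, hext, by omega⟩
        | oodd m p f hm ho =>
          exfalso
          obtain ⟨F, _, _, hF, ⟨e'⟩⟩ := hT
          have h100 : d ≤ 100 := by
            rcases hex hext with h | h
            · exact absurd h h17
            · exact h
          rcases le_oodd hcv hr hr2 hrk hF hm e' with h | h
          · exact absurd h.1 (by norm_num)
          · rw [hq] at h
            norm_num at h
            omega
    · left
      refine not_dvd_lie hna hg hT hR hr2 hc hd (hlo.trans hn) ?_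
      rintro hext ⟨h1, h2⟩
      exact hexc ⟨hext, h1, h2⟩
  · left
    exact fun h => not_dvd_small tb hna hQ ((pow_dvd_pow 2 he).trans h)

/-- **Degree at most `248`.** -/
theorem aut_248 (tb : OrderTable.{u}) (hK : IsQuasisimple K) (hQ : Qs (K ⧸ Subgroup.center K)) {p : ℕ} [CharP k p]
    (hp : ¬ p ∣ Nat.card K) (ρ : K →* Matrix.GeneralLinearGroup (Fin n) k) (hρ : Function.Injective ρ)
    (hn : n ≤ 248) : ¬ 2 ^ 30 ∣ Nat.card (MulAut (K ⧸ Subgroup.center K)) := by
  rcases main_aux tb hK hQ hp ρ hρ chk1 le_rfl hn (by norm_num) (fun h => absurd h (by decide)) with h | ⟨-, h, -⟩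
  · exact h
  · exact absurd h (by decide)

/-- **Degree at most `133`.** -/
theorem aut_133 (tb : OrderTable.{u}) (hK : IsQuasisimple K) (hQ : Qs (K ⧸ Subgroup.center K)) {p : ℕ} [CharP k p]
    (hp : ¬ p ∣ Nat.card K) (ρ : K →* Matrix.GeneralLinearGroup (Fin n) k) (hρ : Function.Injective ρ)
    (hn : n ≤ 133) : ¬ 2 ^ 23 ∣ Nat.card (MulAut (K ⧸ Subgroup.center K)) := by
  rcases main_aux tb hK hQ hp ρ hρ chk2 (by norm_num) hn (by norm_num) (fun h => absurd h (by decide)) with
    h | ⟨-, h, -⟩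
  · exact h
  · exact absurd h (by decide)

/-- **Degree at most `78`.** -/
theorem aut_78 (tb : OrderTable.{u}) (hK : IsQuasisimple K) (hQ : Qs (K ⧸ Subgroup.center K)) {p : ℕ} [CharP k p]
    (hp : ¬ p ∣ Nat.card K) (ρ : K →* Matrix.GeneralLinearGroup (Fin n) k) (hρ : Function.Injective ρ)
    (hn : n ≤ 78) : ¬ 2 ^ 17 ∣ Nat.card (MulAut (K ⧸ Subgroup.center K)) := by
  rcases main_aux tb hK hQ hp ρ hρ chk3 (by norm_num) hn (by norm_num) (fun _ => Or.inl le_rfl) with h | ⟨-, -, h⟩
  · exact h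
  · exact absurd h (by norm_num)

/-- **Degree at most `52`.** -/
theorem aut_52 (tb : OrderTable.{u}) (hK : IsQuasisimple K) (hQ : Qs (K ⧸ Subgroup.center K)) {p : ℕ} [CharP k p]
    (hp : ¬ p ∣ Nat.card K) (ρ : K →* Matrix.GeneralLinearGroup (Fin n) k) (hρ : Function.Injective ρ)
    (hn : n ≤ 52) : ¬ 2 ^ 15 ∣ Nat.card (MulAut (K ⧸ Subgroup.center K)) ∨ IsSp83 (K ⧸ Subgroup.center K) := by
  rcases main_aux tb hK hQ hp ρ hρ chk4 (by norm_num) hn (by norm_num) (fun _ => Or.inr (by norm_num)) with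
    h | ⟨h, -, -⟩
  · exact Or.inl h
  · exact Or.inr h

end Cfsg.Agent.H418.NN
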