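import Mathlib
import Cfsg.Agent.H418.NN.Main

/-!
# Box (N): the index of the centraliser (helper418)

* `index_dvd` : `K ⊴ H` quasisimple: `|H : C_H(K)|` divides `|Aut (K / Z(K))|`;
* `card_dvd` : `Y ⊴ X`, `Y ≅ T`, `C_X(Y) = 1`: `|X|` divides `|Aut T|`.
-/

set_option autoImplicit false

namespace Cfsg.Agent.H418.NN

open Cfsg Cfsg.Agent.OrdDiv

universe u v w

/-- the automorphism of the central quotient induced by an automorphism -/
def quoAut (K : Type*) [Group K] : MulAut K →* MulAut (K ⧸ Subgroup.center K) where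
  toFun a := QuotientGroup.congr _ _ a (by
    have h : (Subgroup.center K).Characteristic := inferInstance
    exact Subgroup.characteristic_iff_map_eq.1 h a)
  map_one' := by
    apply MulEquiv.ext
    intro x
    induction x using QuotientGroup.induction_on
    rfl
  map_mul' a b := by
    apply MulEquiv.ext
    intro x
    induction x using QuotientGroup.induction_on
    rfl

theorem quoAut_mk {K : Type*} [Group K] (a : MulAut K) (x : K) :
    quoAut K a (QuotientGroup.mk x) = QuotientGroup.mk (a x) := rfl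

/-- for perfect `K` the map is injective -/
theorem quoAut_injective {K : Type*} [Group K] (hK : commutator K = ⊤) : Function.Injective (quoAut K) := by
  rw [injective_iff_map_eq_one]
  intro a ha
  have h1 : ∀ x : K, a x * x⁻¹ ∈ Subgroup.center K := by
    intro x
    have h2 : (QuotientGroup.mk (a x) : K ⧸ Subgroup.center K) = QuotientGroup.mk x := by
      rw [← quoAut_mk, ha]; rfl
    have h3 := QuotientGroup.eq.1 h2.symm
    have h4 : a x * x⁻¹ = x * (x⁻¹ * a x) * x⁻¹ := by group
    rw [h4]
    exact Subgroup.Normal.conj_mem inferInstance _ h3 x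
  let f : K →* Subgroup.center K :=
    { toFun := fun x => ⟨a x * x⁻¹, h1 x⟩
      map_one' := by apply Subtype.ext; simp
      map_mul' := fun x y => by
        apply Subtype.ext
        show a (x * y) * (x * y)⁻¹ = (a x * x⁻¹) * (a y * y⁻¹)
        have h2 := Subgroup.mem_center_iff.1 (h1 y) (a x)
        have h3 := Subgroup.mem_center_iff.1 (h1 y) x⁻¹
        rw [map_mul]
        calc a x * a y * (x * y)⁻¹ = a x * ((a y * y⁻¹) * x⁻¹) := by group
          _ = a x * (x⁻¹ * (a y * y⁻¹)) := by rw [h3]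
          _ = _ := by group }
  have h5 : f.ker = ⊤ := by
    rw [eq_top_iff, ← hK, commutator_def, Subgroup.commutator_le]
    intro x _ y _
    rw [MonoidHom.mem_ker, map_commutatorElement, commutatorElement_eq_one_iff_mul_comm]
    apply Subtype.ext
    exact (Subgroup.mem_center_iff.1 (f x).2 (f y)).symm
  apply MulEquiv.ext
  intro x
  have h6 : x ∈ f.ker := by rw [h5]; trivial
  have h7 : a x * x⁻¹ = 1 := congrArg Subtype.val h6
  exact mul_inv_eq_one.1 h7

theorem ker_conjNormal {H : Type*} [Group H] (K : Subgroup H) [K.Normal] :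
    (MulAut.conjNormal : H →* MulAut K).ker = Subgroup.centralizer (K : Set H) := by
  ext h
  rw [MonoidHom.mem_ker, Subgroup.mem_centralizer_iff]
  constructor
  · intro h1 x hx
    have h2 : ((MulAut.conjNormal h : MulAut K) ⟨x, hx⟩ : H) = x := by rw [h1]; rfl
    rw [MulAut.conjNormal_apply] at h2
    have h3 : h * x = x * h := by
      calc h * x = (h * x * h⁻¹) * h := by group
        _ = x * h := by rw [h2]
    exact h3.symm
  · intro h1
    apply MulEquiv.ext
    intro x
    apply Subtype.ext
    rw [MulAut.conjNormal_apply]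
    show h * (x : H) * h⁻¹ = x
    rw [← h1 x x.2]; group

theorem index_dvd {H : Type*} [Group H] [Finite H] (K : Subgroup H) [K.Normal] (hK : IsQuasisimple K) :
    (Subgroup.centralizer (K : Set H)).index ∣ Nat.card (MulAut (K ⧸ Subgroup.center K)) := by
  have h1 := quoAut_injective hK.1.commutator_eq_top
  have h2 : ((quoAut K).comp (MulAut.conjNormal : H →* MulAut K)).ker = Subgroup.centralizer (K : Set H) := by
    rw [← ker_conjNormal K]
    ext h
    rw [MonoidHom.mem_ker, MonoidHom.mem_ker, MonoidHom.comp_apply]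
    exact map_eq_one_iff _ h1
  rw [← h2, Subgroup.index_ker]
  exact Subgroup.card_subgroup_dvd_card _

theorem card_dvd {X : Type*} [Group X] [Finite X] (Y : Subgroup X) [Y.Normal]
    (hY : Subgroup.centralizer (Y : Set X) = ⊥) {T : Type*} [Group T] (e : Y ≃* T) :
    Nat.card X ∣ Nat.card (MulAut T) := by
  rw [← Nat.card_congr (MulAut.congr e).toEquiv]
  have h1 : Function.Injective (MulAut.conjNormal : X →* MulAut Y) := by
    rw [← MonoidHom.ker_eq_bot_iff, ker_conjNormal, hY]
  rw [Nat.card_congr (MonoidHom.ofInjective h1).toEquiv]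
  exact Subgroup.card_subgroup_dvd_card _

section

variable {K : Type u} [Group K] [Finite K] {k : Type w} [Field k] {n : ℕ}

/-- **The form with `X`, degree at most `248`.** -/
theorem card_248 (tb : OrderTable.{u}) (hK : IsQuasisimple K) (hQ : Qs (K ⧸ Subgroup.center K)) {p : ℕ} [CharP k p]
    (hp : ¬ p ∣ Nat.card K) (ρ : K →* Matrix.GeneralLinearGroup (Fin n) k) (hρ : Function.Injective ρ)
    (hn : n ≤ 248) {X : Type v} [Group X] [Finite X] (Y : Subgroup X) [Y.Normal]
    (hY : Subgroup.centralizer (Y : Set X) = ⊥) (e : Y ≃* K ⧸ Subgroup.center K) : ¬ 2 ^ 30 ∣ Nat.card X :=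
  fun h => aut_248 tb hK hQ hp ρ hρ hn
    (h.trans (card_dvd Y hY e))

/-- **The form with `X`, degree at most `133`.** -/
theorem card_133 (tb : OrderTable.{u}) (hK : IsQuasisimple K) (hQ : Qs (K ⧸ Subgroup.center K)) {p : ℕ} [CharP k p]
    (hp : ¬ p ∣ Nat.card K) (ρ : K →* Matrix.GeneralLinearGroup (Fin n) k) (hρ : Function.Injective ρ)
    (hn : n ≤ 133) {X : Type v} [Group X] [Finite X] (Y : Subgroup X) [Y.Normal]
    (hY : Subgroup.centralizer (Y : Set X) = ⊥) (e : Y ≃* K ⧸ Subgroup.center K) : ¬ 2 ^ 23 ∣ Nat.card X :=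
  fun h => aut_133 tb hK hQ hp ρ hρ hn
    (h.trans (card_dvd Y hY e))

/-- **The form with `X`, degree at most `78`.** -/
theorem card_78 (tb : OrderTable.{u}) (hK : IsQuasisimple K) (hQ : Qs (K ⧸ Subgroup.center K)) {p : ℕ} [CharP k p]
    (hp : ¬ p ∣ Nat.card K) (ρ : K →* Matrix.GeneralLinearGroup (Fin n) k) (hρ : Function.Injective ρ)
    (hn : n ≤ 78) {X : Type v} [Group X] [Finite X] (Y : Subgroup X) [Y.Normal]
    (hY : Subgroup.centralizer (Y : Set X) = ⊥) (e : Y ≃* K ⧸ Subgroup.center K) : ¬ 2 ^ 17 ∣ Nat.card X :=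
  fun h => aut_78 tb hK hQ hp ρ hρ hn
    (h.trans (card_dvd Y hY e))

end

section

variable {H : Type u} [Group H] [Finite H] (K : Subgroup H) [K.Normal] {k : Type w} [Field k] {n : ℕ}

omit [Finite H] [K.Normal] in
theorem comp_inj (ρ : H →* Matrix.GeneralLinearGroup (Fin n) k) (hρ : Function.Injective ρ) :
    Function.Injective (ρ.comp K.subtype) := fun _ _ h => Subtype.ext (hρ h)

/-- **The form with the index of the centraliser, degree at most `248`.** -/
theorem index_248 (tb : OrderTable.{u}) (hK : IsQuasisimple K) (hQ : Qs (K ⧸ Subgroup.center K)) {p : ℕ} [CharP k p]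
    (hp : ¬ p ∣ Nat.card K) (ρ : H →* Matrix.GeneralLinearGroup (Fin n) k) (hρ : Function.Injective ρ)
    (hn : n ≤ 248) : ¬ 2 ^ 30 ∣ (Subgroup.centralizer (K : Set H)).index :=
  fun h => aut_248 tb hK hQ hp (ρ.comp K.subtype) (comp_inj K ρ hρ) hn (h.trans (index_dvd K hK))

/-- **The form with the index of the centraliser, degree at most `133`.** -/
theorem index_133 (tb : OrderTable.{u}) (hK : IsQuasisimple K) (hQ : Qs (K ⧸ Subgroup.center K)) {p : ℕ} [CharP k p]
    (hp : ¬ p ∣ Nat.card K) (ρ : H →* Matrix.GeneralLinearGroup (Fin n) k) (hρ : Function.Injective ρ)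
    (hn : n ≤ 133) : ¬ 2 ^ 23 ∣ (Subgroup.centralizer (K : Set H)).index :=
  fun h => aut_133 tb hK hQ hp (ρ.comp K.subtype) (comp_inj K ρ hρ) hn (h.trans (index_dvd K hK))

/-- **The form with the index of the centraliser, degree at most `78`.** -/
theorem index_78 (tb : OrderTable.{u}) (hK : IsQuasisimple K) (hQ : Qs (K ⧸ Subgroup.center K)) {p : ℕ} [CharP k p]
    (hp : ¬ p ∣ Nat.card K) (ρ : H →* Matrix.GeneralLinearGroup (Fin n) k) (hρ : Function.Injective ρ)
    (hn : n ≤ 78) : ¬ 2 ^ 17 ∣ (Subgroup.centralizer (K : Set H)).index :=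
  fun h => aut_78 tb hK hQ hp (ρ.comp K.subtype) (comp_inj K ρ hρ) hn (h.trans (index_dvd K hK))

end

end Cfsg.Agent.H418.NN
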