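import Mathlib
import Cfsg.Agent.H418.NN.Ind
import Cfsg.Agent.H418.NN.Heis

/-!
# Box (N): `F4(q)`, the case `PSp8(3)` (helper418)

`sp83` : `C ⊴ G` quasisimple with centre of odd order and `C / Z(C) ≅ PSp8(3)`, `G ≤ GL_n(k)`, `n ≤ 53`, `char k ∤ |C|`:
then `2 ^ 15 ∤ |G : C_G(C)|`.
-/

set_option autoImplicit false

namespace Cfsg.Agent.H418.NN

open Cfsg Cfsg.Agent.OrdDiv Cfsg.Agent.H902 Cfsg.Agent.H902.Names Cfsg.Agent.H912.Bd

universe u v w

/-- change of the universe of the linear group -/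
theorem pr_of_inj {L : Type u} [Group L] {T : Type v} [Group T] {F : Type w} [Field F] {n r : ℕ} (π : L →* T)
    (hπ : Function.Surjective π) (hc : ∀ x, π x = 1 → ∀ y, x * y = y * x) (hcop : (Nat.card π.ker).Coprime r)
    (ρ : L →* Matrix.GeneralLinearGroup (Fin n) F) (hρ : Function.Injective ρ) : PR F n r T := by
  let e : L ≃* ρ.range := MonoidHom.ofInjective hρ
  refine ⟨ρ.range, inferInstance, π.comp e.symm.toMonoidHom, ρ.range.subtype, hπ.comp e.symm.surjective, ?_, ?_, ?_⟩
  · intro x hx y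
    apply e.symm.injective
    rw [map_mul, map_mul]
    exact hc _ hx _
  · have h1 : Nat.card (π.comp e.symm.toMonoidHom).ker = Nat.card π.ker := by
      apply Nat.card_congr
      exact
        { toFun := fun x => ⟨e.symm x.1, x.2⟩
          invFun := fun x => ⟨e x.1, by
            show π (e.symm (e x.1)) = 1
            rw [e.symm_apply_apply]; exact x.2⟩
          left_inv := fun x => Subtype.ext (e.apply_symm_apply _)
          right_inv := fun x => Subtype.ext (e.symm_apply_apply _) }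
    rw [h1]; exact hcop
  · rw [(MonoidHom.ker_eq_bot_iff _).2 ρ.range.subtype_injective]
    exact bot_le

section outer

variable {G : Type u} [Group G] [Finite G] (C : Subgroup G) [C.Normal]

/-- an automorphism group of twice the order of `C` -/
theorem exists_L (hZ : Subgroup.center C = ⊥) (hcard : Nat.card (MulAut C) = 2 * Nat.card C) (h3 : 3 ≤ Nat.card C)
    {e : ℕ} (he : ¬ 2 ^ e ∣ Nat.card C) (h : 2 ^ e ∣ (Subgroup.centralizer (C : Set G)).index) :
    ∃ L : Subgroup G, ∃ π : L →* MulAut C, Function.Surjective π ∧ (∀ x, π x = 1 → ∀ y, x * y = y * x) ∧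
      (Nat.card π.ker).Coprime 3 := by
  let φ : G →* MulAut C := MulAut.conjNormal
  have hker : φ.ker = Subgroup.centralizer (C : Set G) := ker_conjNormal C
  rw [← hker, Subgroup.index_ker] at h
  have hpos : 0 < Nat.card C := Nat.card_pos
  have hfinA : Finite (MulAut C) := Nat.finite_of_card_ne_zero (by rw [hcard]; omega)
  -- inner automorphisms
  have hφC : ∀ c : C, φ c = MulAut.conj c := by
    intro c
    apply MulEquiv.ext
    intro x
    apply Subtype.ext
    rw [MulAut.conjNormal_apply]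
    rfl
  let I : Subgroup (MulAut C) := (MulAut.conj : C →* MulAut C).range
  have hcinj : Function.Injective (MulAut.conj : C →* MulAut C) := by
    rw [← MonoidHom.ker_eq_bot_iff, eq_bot_iff]
    intro x hx
    rw [← hZ, Subgroup.mem_center_iff]
    intro y
    have h1 : (MulAut.conj x : MulAut C) y = y := by
      rw [show MulAut.conj x = (1 : MulAut C) from hx]; rfl
    rw [MulAut.conj_apply] at h1
    exact (mul_inv_eq_iff_eq_mul.1 h1).symm
  have hIcard : Nat.card I = Nat.card C := (Nat.card_congr (MonoidHom.ofInjective hcinj).toEquiv).symm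
  have hIidx : I.index = 2 := by
    have h1 := I.card_mul_index
    rw [hIcard, hcard, mul_comm] at h1
    exact Nat.eq_of_mul_eq_mul_right hpos h1
  have hIn : I.Normal := Subgroup.normal_of_index_eq_two hIidx
  -- a subgroup containing `I` properly is everything
  have hbig : ∀ R : Subgroup (MulAut C), I ≤ R → (∃ r ∈ R, r ∉ I) → R = ⊤ := by
    intro R hIR hr
    obtain ⟨r, hrR, hrI⟩ := hr
    rw [eq_top_iff]
    intro x _
    by_cases hx : x ∈ I
    · exact hIR hx
    · have h1 : r⁻¹ * x ∈ I := by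
        have := (Subgroup.mul_mem_iff_of_index_two hIidx (a := r⁻¹) (b := x)).2
        apply this
        rw [inv_mem_iff]
        exact ⟨fun h => absurd h hrI, fun h => absurd h hx⟩
      have h2 := R.mul_mem hrR (hIR h1)
      rwa [mul_inv_cancel_left] at h2
  have hIφ : I ≤ φ.range := by
    rintro _ ⟨c, rfl⟩
    exact ⟨c, hφC c⟩
  obtain ⟨g₀, hg₀⟩ : ∃ g₀ : G, φ g₀ ∉ I := by
    by_contra hcon
    push Not at hcon
    have h1 : φ.range = I := le_antisymm (by rintro _ ⟨g, rfl⟩; exact hcon g) hIφ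
    rw [h1, hIcard] at h
    exact he h
  -- the `2`-element
  obtain ⟨j, m, hm, hjm⟩ : ∃ j m : ℕ, Odd m ∧ orderOf g₀ = 2 ^ j * m := by
    obtain ⟨j, m, hm, h1⟩ := Nat.exists_eq_two_pow_mul_odd (orderOf_pos g₀).ne'
    exact ⟨j, m, hm, h1⟩
  let g : G := g₀ ^ m
  have hgj : g ^ 2 ^ j = 1 := by
    show (g₀ ^ m) ^ 2 ^ j = 1
    rw [← pow_mul, mul_comm, ← hjm, pow_orderOf_eq_one]
  have hgI : φ g ∉ I := by
    show φ (g₀ ^ m) ∉ I
    rw [map_pow]
    obtain ⟨c, rfl⟩ := hm
    intro h1
    apply hg₀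
    have h2 : φ g₀ ^ (2 * c) ∈ I := by
      rw [pow_mul]
      exact I.pow_mem (by rw [← hIidx]; exact Subgroup.pow_index_mem I _) c
    rw [pow_succ] at h1
    exact (I.mul_mem_cancel_left h2).1 h1
  let L : Subgroup G := C ⊔ Subgroup.zpowers g
  have hCL : C ≤ L := le_sup_left
  have hgL : g ∈ L := (le_sup_right : Subgroup.zpowers g ≤ L) (Subgroup.mem_zpowers g)
  let π : L →* MulAut C := φ.comp L.subtype
  have hsurj : Function.Surjective π := by
    rw [← MonoidHom.range_eq_top]
    apply hbig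
    · rintro _ ⟨c, rfl⟩
      exact ⟨⟨c, hCL c.2⟩, hφC c⟩
    · exact ⟨φ g, ⟨⟨g, hgL⟩, rfl⟩, hgI⟩
  -- elements of `L`
  have hmemL : ∀ x ∈ L, ∃ c ∈ C, ∃ i : ℤ, x = c * g ^ i := by
    intro x hx
    obtain ⟨c, hc, z, hz, rfl⟩ := Subgroup.mem_sup_of_normal_left.1 hx
    obtain ⟨i, rfl⟩ := Subgroup.mem_zpowers_iff.1 hz
    exact ⟨c, hc, i, rfl⟩
  have hcap : ∀ x ∈ C, φ x = 1 → x = 1 := by
    intro x hx h1
    have h2 : (⟨x, hx⟩ : C) ∈ Subgroup.center C := by
      rw [Subgroup.mem_center_iff]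
      intro y
      have h3 : (MulAut.conj (⟨x, hx⟩ : C) : MulAut C) y = y := by
        rw [← hφC, h1]; rfl
      rw [MulAut.conj_apply] at h3
      exact (mul_inv_eq_iff_eq_mul.1 h3).symm
    rw [hZ, Subgroup.mem_bot] at h2
    exact congrArg Subtype.val h2
  have hφ1 : ∀ x : G, φ x = 1 → ∀ c ∈ C, x * c = c * x := by
    intro x hx c hc
    have h2 : x ∈ Subgroup.centralizer (C : Set G) := by rw [← hker]; exact hx
    exact (Subgroup.mem_centralizer_iff.1 h2 c hc).symm
  refine ⟨L, π, hsurj, ?_, ?_⟩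
  · intro x hx y
    have hx' : φ (x : G) = 1 := hx
    apply Subtype.ext
    show (x : G) * y = y * x
    -- `x` commutes with `g`
    have hxg : (x : G) * g = g * x := by
      obtain ⟨c, hc, i, hxi⟩ := hmemL x x.2
      have h1 : g * (x : G) * g⁻¹ * (x : G)⁻¹ ∈ C := by
        rw [hxi]
        have h2 : g * (c * g ^ i) * g⁻¹ * (c * g ^ i)⁻¹ = (g * c * g⁻¹) * c⁻¹ := by
          have h3 : g ^ i * g⁻¹ = g⁻¹ * g ^ i := by
            rw [← zpow_neg_one, ← zpow_add, ← zpow_add, add_comm]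
          calc g * (c * g ^ i) * g⁻¹ * (c * g ^ i)⁻¹ = g * c * (g ^ i * g⁻¹) * (g ^ i)⁻¹ * c⁻¹ := by group
            _ = g * c * (g⁻¹ * g ^ i) * (g ^ i)⁻¹ * c⁻¹ := by rw [h3]
            _ = _ := by group
        rw [h2]
        exact C.mul_mem (Subgroup.Normal.conj_mem inferInstance c hc g) (C.inv_mem hc)
      have h2 := hcap _ h1 (by simp [hx'])
      have h3 : g * (x : G) * g⁻¹ = x := mul_inv_eq_one.1 h2
      exact (mul_inv_eq_iff_eq_mul.1 h3).symm
    obtain ⟨c, hc, i, hyi⟩ := hmemL y y.2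
    rw [hyi]
    have h1 := hφ1 _ hx' c hc
    have h2 : (x : G) * g ^ i = g ^ i * x := (Commute.zpow_right (show Commute (x : G) g from hxg) i)
    calc (x : G) * (c * g ^ i) = (x * c) * g ^ i := by group
      _ = c * (x * g ^ i) := by rw [h1]; group
      _ = _ := by rw [h2]; group
  · have hp : IsPGroup 2 π.ker := by
      intro x
      refine ⟨j, ?_⟩
      apply Subtype.ext
      apply Subtype.ext
      show ((x : L) : G) ^ 2 ^ j = 1
      have hx' : φ ((x : L) : G) = 1 := x.2
      apply hcap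
      · obtain ⟨c, hc, i, hxi⟩ := hmemL _ (x : L).2
        rw [← QuotientGroup.eq_one_iff, QuotientGroup.mk_pow, hxi, QuotientGroup.mk_mul,
          (QuotientGroup.eq_one_iff c).2 hc, one_mul, QuotientGroup.mk_zpow, ← zpow_natCast, ← zpow_mul, mul_comm,
          zpow_mul, zpow_natCast, ← QuotientGroup.mk_pow, hgj]
        simp
      · rw [map_pow, hx', one_pow]
    obtain ⟨t, ht⟩ := IsPGroup.iff_card.1 hp
    rw [ht]
    exact Nat.Coprime.pow_left _ (by norm_num)

end outer

section final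

variable {G : Type u} [Group G] [Finite G] (C : Subgroup G) [C.Normal] {k : Type w} [Field k] {n : ℕ}

omit [Finite G] [C.Normal] in
/-- the centre is trivial -/
theorem center_bot (hC : IsQuasisimple C) (hZ : Odd (Nat.card (Subgroup.center C)))
    (h83 : IsSp83 (C ⧸ Subgroup.center C)) : Subgroup.center C = ⊥ := by
  obtain ⟨F, _, _, hF, ⟨e⟩⟩ := h83
  have h1 := S2092.result (F := F) rfl 4 (by norm_num) (by norm_num) (by rintro ⟨h, -⟩; exact absurd h (by norm_num))
  have h2 := H264.CoverOver.card_ker_dvd h1 hC.1.commutator_eq_top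
    (e.toMonoidHom.comp (QuotientGroup.mk' (Subgroup.center C)))
    (e.surjective.comp (QuotientGroup.mk'_surjective _)) (by
      intro x hx
      have h3 : e (QuotientGroup.mk' (Subgroup.center C) x) = 1 := hx
      rw [MulEquiv.map_eq_one_iff] at h3
      exact (QuotientGroup.eq_one_iff x).1 h3)
  have h4 : (e.toMonoidHom.comp (QuotientGroup.mk' (Subgroup.center C))).ker = Subgroup.center C := by
    ext x
    rw [MonoidHom.mem_ker, MonoidHom.comp_apply]
    constructor
    · intro h3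
      have h3' : e (QuotientGroup.mk' (Subgroup.center C) x) = 1 := h3
      rw [MulEquiv.map_eq_one_iff] at h3'
      exact (QuotientGroup.eq_one_iff x).1 h3'
    · intro h3
      have h3' : QuotientGroup.mk' (Subgroup.center C) x = 1 := (QuotientGroup.eq_one_iff x).2 h3
      rw [h3']
      exact map_one e
  rw [h4, Nat.card_congr (Multiplicative.toAdd (α := ZMod (Nat.gcd 2 (Fintype.card F - 1)))), Nat.card_zmod, hF] at h2
  have h5 : Nat.card (Subgroup.center C) ∣ 2 := h2
  have h6 : Nat.card (Subgroup.center C) = 1 := by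
    rcases (Nat.dvd_prime Nat.prime_two).1 h5 with h | h
    · exact h
    · rw [h] at hZ; exact absurd hZ (by decide)
  exact Subgroup.card_eq_one.1 h6

/-- **`PSp8(3)`.** -/
theorem sp83 (hC : IsQuasisimple C) (hZ : Odd (Nat.card (Subgroup.center C)))
    (h83 : IsSp83 (C ⧸ Subgroup.center C)) {p : ℕ} [CharP k p] (hp : ¬ p ∣ Nat.card C)
    (ρ : G →* Matrix.GeneralLinearGroup (Fin n) k) (hρ : Function.Injective ρ) (hn : n ≤ 53) :
    ¬ 2 ^ 15 ∣ (Subgroup.centralizer (C : Set G)).index := by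
  intro hdvd
  have hbot := center_bot C hC hZ h83
  obtain ⟨F, _, _, hF, ⟨e0⟩⟩ := h83
  let e : C ≃* PSp 4 F := (QuotientGroup.quotientBot.symm.trans
    (QuotientGroup.quotientMulEquivOfEq hbot.symm)).trans e0
  have hF1 : Fintype.card F = 3 ^ 1 := by rw [hF]; norm_num
  have hR := psp_real (F := F) (m := 4) Nat.prime_three le_rfl hF1 (by norm_num) (by norm_num)
  have hcardC : Nat.card C = Nat.card (PSp 4 F) := Nat.card_congr e.toEquiv
  have heq := hR.eq
  have hdd : Art.dd (.C 4) (3 ^ 1) = 2 := by decide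
  have hnum : Art.num (.C 4) (3 ^ 1) = 8 * 80 * 728 * 6560 := by decide +kernel
  have hNN : Art.NN (.C 4) = 16 := rfl
  rw [hdd, hnum, hNN, ← hcardC] at heq
  have hcard : Nat.card C = 3 ^ 16 * (8 * 80 * 728 * 3280) := by
    have h2 : 2 * Nat.card C = 2 * (3 ^ 16 * (8 * 80 * 728 * 3280)) := by rw [heq]; norm_num
    exact Nat.eq_of_mul_eq_mul_left (by norm_num) h2
  have : Fact (Nat.Prime 3) := ⟨Nat.prime_three⟩
  have haut : Nat.card (MulAut C) = 2 * Nat.card C := by
    have h1 := Cfsg.Agent.S0814.result 3 1 le_rfl hF1 4 (by norm_num) (by norm_num)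
    rw [Nat.card_congr (MulAut.congr e).toEquiv, h1, hcardC]
    norm_num
  have h3k : (3 : k) ≠ 0 := by
    intro h0
    have h1 : p ∣ 3 := (CharP.cast_eq_zero_iff k p 3).1 (by exact_mod_cast h0)
    exact hp (h1.trans (by rw [hcard]; exact Dvd.dvd.mul_right (dvd_pow_self 3 (by norm_num)) _))
  obtain ⟨L, π, hπ, hc, hcop⟩ := exists_L C hbot haut (by rw [hcard]; norm_num) (e := 15)
    (by rw [hcard]; norm_num) hdvd
  have hpr : PR k n 3 (MulAut C) := pr_of_inj π hπ hc hcop (ρ.comp L.subtype) (comp_inj L ρ hρ)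
  have hpr2 : PR k n 3 (MulAut (PSp 4 F)) := hpr.sub (MulAut.congr e).symm.toMonoidHom (MulAut.congr e).symm.injective
  have hZ2 : Subgroup.center (PSp 4 F) = ⊥ := by
    rw [eq_bot_iff]
    intro x hx
    have h1 : e.symm x ∈ Subgroup.center C := by
      rw [Subgroup.mem_center_iff] at hx ⊢
      intro y
      apply e.injective
      rw [map_mul, map_mul, e.apply_symm_apply]
      exact hx (e y)
    rw [hbot, Subgroup.mem_bot] at h1
    rw [Subgroup.mem_bot]
    exact (map_eq_one_iff _ e.symm.injective).1 h1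
  have := bd_mulAut hF hZ2 h3k n hpr2
  omega

/-- **`F4`.** -/
theorem index_52 (tb : OrderTable.{u}) (hC : IsQuasisimple C) (hZ : Odd (Nat.card (Subgroup.center C)))
    (hQ : Qs (C ⧸ Subgroup.center C)) {p : ℕ} [CharP k p] (hp : ¬ p ∣ Nat.card C)
    (ρ : G →* Matrix.GeneralLinearGroup (Fin n) k) (hρ : Function.Injective ρ) (hn : n ≤ 52) :
    ¬ 2 ^ 15 ∣ (Subgroup.centralizer (C : Set G)).index := by
  rcases aut_52 tb hC hQ hp (ρ.comp C.subtype) (comp_inj C ρ hρ) hn with h | h
  · exact fun h1 => h (h1.trans (index_dvd C hC))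
  · exact sp83 C hC hZ h hp ρ hρ (by omega)

end final

end Cfsg.Agent.H418.NN
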