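import Mathlib
import Cfsg.Agent.H418.NN.F4
import Cfsg.Agent.OrdDiv.Table

/-!
# Box (N): the final form (helper418)

`no_two_pow` : a finite linear group `G` of degree `52`, `78`, `133`, `248` over a field of characteristic `p ∤ |G|` with a
normal quasisimple subgroup `C`, centre of odd order, `C / Z(C)` of Lie type in odd characteristic or `M11`, `M12`, `PSp6(2)`,
`PΩ8+(2)`: `|G : C_G(C)|` is not divisible by `2 ^ 15`, `2 ^ 17`, `2 ^ 23`, `2 ^ 30`.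
-/

set_option autoImplicit false

namespace Cfsg.Agent.H418.NN

open Cfsg Cfsg.Agent.OrdDiv

universe u v

/-- transport of `IsLieTypeChar` -/
theorem lie_congr {p : ℕ} {G H : Type*} [Group G] [Group H] (e : H ≃* G) (h : IsLieTypeChar p G) :
    IsLieTypeChar p H := by
  rcases h with h | h | h | h | h | h | h | h | h | h | h
  · obtain ⟨F, a, b, c, n, h1, h2, ⟨f⟩⟩ := h
    exact Or.inl ⟨F, a, b, c, n, h1, h2, ⟨e.trans f⟩⟩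
  · obtain ⟨F, a, b, c, n, h1, h2, ⟨f⟩⟩ := h
    exact Or.inr (Or.inl ⟨F, a, b, c, n, h1, h2, ⟨e.trans f⟩⟩)
  · obtain ⟨F, a, b, c, n, q, h1, h2, h3, ⟨f⟩⟩ := h
    exact Or.inr (Or.inr (Or.inl ⟨F, a, b, c, n, q, h1, h2, h3, ⟨e.trans f⟩⟩))
  · obtain ⟨F, a, b, c, n, h1, h2, ⟨f⟩⟩ := h
    exact Or.inr (Or.inr (Or.inr (Or.inl ⟨F, a, b, c, n, h1, h2, ⟨e.trans f⟩⟩)))
  · obtain ⟨F, a, b, c, n, h1, ⟨f⟩⟩ := h
    exact Or.inr (Or.inr (Or.inr (Or.inr (Or.inl ⟨F, a, b, c, n, h1, ⟨e.trans f⟩⟩))))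
  · obtain ⟨F, a, b, c, n, x, y, h1, h2, ⟨f⟩⟩ := h
    exact Or.inr (Or.inr (Or.inr (Or.inr (Or.inr (Or.inl ⟨F, a, b, c, n, x, y, h1, h2, ⟨e.trans f⟩⟩)))))
  · obtain ⟨F, a, b, c, h⟩ := h
    refine Or.inr (Or.inr (Or.inr (Or.inr (Or.inr (Or.inr (Or.inl ⟨F, a, b, c, ?_⟩))))))
    rcases h with ⟨h, ⟨f⟩⟩ | ⟨⟨f⟩⟩ | ⟨⟨f⟩⟩ | ⟨⟨f⟩⟩ | ⟨⟨f⟩⟩
    · exact Or.inl ⟨h, ⟨e.trans f⟩⟩
    · exact Or.inr (Or.inl ⟨e.trans f⟩)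
    · exact Or.inr (Or.inr (Or.inl ⟨e.trans f⟩))
    · exact Or.inr (Or.inr (Or.inr (Or.inl ⟨e.trans f⟩)))
    · exact Or.inr (Or.inr (Or.inr (Or.inr ⟨e.trans f⟩)))
  · obtain ⟨F, a, b, c, q, hq, h⟩ := h
    refine Or.inr (Or.inr (Or.inr (Or.inr (Or.inr (Or.inr (Or.inr (Or.inl ⟨F, a, b, c, q, hq, ?_⟩)))))))
    rcases h with ⟨h, ⟨f⟩⟩ | ⟨h, ⟨f⟩⟩
    · exact Or.inl ⟨h, ⟨e.trans f⟩⟩
    · exact Or.inr ⟨h, ⟨e.trans f⟩⟩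
  · obtain ⟨h1, F, a, b, m, h2, h3, ⟨f⟩⟩ := h
    exact Or.inr (Or.inr (Or.inr (Or.inr (Or.inr (Or.inr (Or.inr (Or.inr (Or.inl
      ⟨h1, F, a, b, m, h2, h3, ⟨e.trans f⟩⟩))))))))
  · obtain ⟨h1, F, a, b, m, h2, h3, ⟨f⟩⟩ := h
    exact Or.inr (Or.inr (Or.inr (Or.inr (Or.inr (Or.inr (Or.inr (Or.inr (Or.inr (Or.inl
      ⟨h1, F, a, b, m, h2, h3, ⟨e.trans f⟩⟩)))))))))
  · obtain ⟨h1, F, a, b, m, h2, h3, ⟨f⟩⟩ := h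
    exact Or.inr (Or.inr (Or.inr (Or.inr (Or.inr (Or.inr (Or.inr (Or.inr (Or.inr (Or.inr
      ⟨h1, F, a, b, m, h2, h3, ⟨e.trans f⟩⟩)))))))))

theorem Qs.congr {Y T : Type*} [Group Y] [Group T] (h : Qs Y) (e : T ≃* Y) : Qs T := by
  rcases h with ⟨p, hp, hp2, h⟩ | ⟨⟨f⟩⟩ | ⟨⟨f⟩⟩ | ⟨F, a, b, hF, ⟨⟨f⟩⟩ | ⟨⟨f⟩⟩⟩
  · exact Or.inl ⟨p, hp, hp2, lie_congr e h⟩
  · exact Or.inr (Or.inl ⟨e.trans f⟩)
  · exact Or.inr (Or.inr (Or.inl ⟨e.trans f⟩))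
  · exact Or.inr (Or.inr (Or.inr ⟨F, a, b, hF, Or.inl ⟨e.trans f⟩⟩))
  · exact Or.inr (Or.inr (Or.inr ⟨F, a, b, hF, Or.inr ⟨e.trans f⟩⟩))

/-- **Box (N).** (`Qs Y` unfolds to the conclusion of S1309.) -/
theorem no_two_pow {d e : ℕ} (hde : (d = 52 ∧ e = 15) ∨ (d = 78 ∧ e = 17) ∨ (d = 133 ∧ e = 23) ∨ (d = 248 ∧ e = 30))
    {k : Type*} [Field k] {p : ℕ} [Fact p.Prime] [CharP k p] (_hp : 5 ≤ p) {G : Type u} [Group G] [Finite G]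
    (C : Subgroup G) [C.Normal] (hC : Cfsg.IsQuasisimple C) (hZ : Odd (Nat.card (Subgroup.center C)))
    (hpG : ¬ p ∣ Nat.card G) {Y : Type u} [Group Y] (e1 : Nonempty (Y ≃* C ⧸ Subgroup.center C)) (hY : Qs Y)
    (rho : G →* Matrix.GeneralLinearGroup (Fin d) k) (hinj : Function.Injective rho) :
    ¬ 2 ^ e ∣ (Subgroup.centralizer (C : Set G)).index := by
  obtain ⟨e1⟩ := e1
  have hQ : Qs (C ⧸ Subgroup.center C) := hY.congr e1.symm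
  have hpC : ¬ p ∣ Nat.card C := fun h => hpG (h.trans (Subgroup.card_subgroup_dvd_card C))
  rcases hde with ⟨rfl, rfl⟩ | ⟨rfl, rfl⟩ | ⟨rfl, rfl⟩ | ⟨rfl, rfl⟩
  · exact index_52 C OrdDiv.table hC hZ hQ hpC rho hinj le_rfl
  · exact index_78 C OrdDiv.table hC hQ hpC rho hinj le_rfl
  · exact index_133 C OrdDiv.table hC hQ hpC rho hinj le_rfl
  · exact index_248 C OrdDiv.table hC hQ hpC rho hinj le_rfl

end Cfsg.Agent.H418.NN
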