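import Mathlib
import Cfsg.Agent.H418.NN.Ind
import Cfsg.Agent.H61.SpAltFb
import Cfsg.Agent.H95.LSx.G23
import Cfsg.Agent.S0243
import Cfsg.Agent.S0813
import Cfsg.Agent.ClassicalGeometry.PSL2Basic

/-!
# Box (N): self-dual projective representations of degree at most `8` in coprime characteristic (helper418)

`CvS T n k` : as `Cv T n k`, with `charpoly (ρ g⁻¹) = charpoly (ρ g)`.
* `CvS.of_form` : `K` perfect, `K ↪ G / Z`, `G` a finite subgroup of `GL_n(k)` preserving a nondegenerate form,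
  `Z ≤ Z(G)` : `CvS (K ⧸ Z(K)) n k`;
* `eight` : `T` simple of Lie type in odd characteristic or `M11`, `M12`, `PSp6(2)`, `PΩ8+(2)`, `char k ∤ |T|`,
  `CvS T n k`, `n ≤ 8` and `2 ^ 6 ∣ |Aut T|` : `T` is `PSU3(3)`, `PSp4(3)`, `PSU4(3)`, `PΩ7(3)`, `PSp6(2)` or `PΩ8+(2)`.
-/

set_option autoImplicit false

namespace Cfsg.Agent.H418.NN

open Cfsg Cfsg.Agent.OrdDiv Cfsg.Agent.H902 Cfsg.Agent.H902.Names
open scoped commutatorElement

universe u v

/-- as `Cv`, self-dual -/
def CvS (T : Type v) [Group T] (n : ℕ) (k : Type u) [Field k] : Prop :=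
  ∃ (P : Type u) (_ : Group P) (_ : Finite P) (π : P →* T) (ρ : P →* Matrix.GeneralLinearGroup (Fin n) k),
    Function.Surjective π ∧ π.ker ≤ Subgroup.center P ∧ commutator P = ⊤ ∧ ρ.ker ≤ π.ker ∧
      ∀ g : P, (ρ g⁻¹).1.charpoly = (ρ g).1.charpoly

theorem CvS.cv {T : Type v} [Group T] {n : ℕ} {k : Type u} [Field k] (h : CvS T n k) : Cv T n k := by
  obtain ⟨P, _, _, π, ρ, h1, h2, h3, h4, -⟩ := h
  exact ⟨P, inferInstance, inferInstance, π, ρ, h1, h2, h3, h4⟩

theorem CvS.congr {T : Type v} [Group T] {n : ℕ} {k : Type u} [Field k] {T' : Type*} [Group T'] (h : CvS T n k)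
    (e : T ≃* T') : CvS T' n k := by
  obtain ⟨P, _, _, π, ρ, h1, h2, h3, h4, h5⟩ := h
  have hk : (e.toMonoidHom.comp π).ker = π.ker := by
    ext x
    rw [MonoidHom.mem_ker, MonoidHom.mem_ker, MonoidHom.comp_apply]
    exact map_eq_one_iff _ e.injective
  exact ⟨P, inferInstance, inferInstance, e.toMonoidHom.comp π, ρ, e.surjective.comp h1, by rw [hk]; exact h2, h3,
    by rw [hk]; exact h4, h5⟩

section form

variable {n : ℕ} {k : Type u} [Field k]

theorem charpoly_inv_of_form {B : Matrix (Fin n) (Fin n) k} (hB : B.det ≠ 0) {g : Matrix.GeneralLinearGroup (Fin n) k}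
    (hg : g.1.transpose * B * g.1 = B) : (g⁻¹).1.charpoly = g.1.charpoly := by
  have hu : IsUnit B.det := isUnit_iff_ne_zero.2 hB
  have h1 : g.1 * (g⁻¹).1 = 1 := g.mul_inv
  have h2 : (g⁻¹).1 = B⁻¹ * g.1.transpose * B := by
    have h3 : B⁻¹ * (g.1.transpose * B * g.1) = 1 := by
      rw [hg]; exact Matrix.nonsing_inv_mul B hu
    calc (g⁻¹).1 = (B⁻¹ * (g.1.transpose * B * g.1)) * (g⁻¹).1 := by rw [h3, one_mul]
      _ = B⁻¹ * g.1.transpose * B * (g.1 * (g⁻¹).1) := by simp only [mul_assoc]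
      _ = B⁻¹ * g.1.transpose * B := by rw [h1, mul_one]
  rw [h2, ← Matrix.charpoly_transpose g.1]
  have h4 := Matrix.charpoly_units_conj' (Matrix.nonsingInvUnit B hu) g.1.transpose
  exact h4

variable {K : Type v} [Group K]

/-- **The constructor.** -/
theorem CvS.of_quo (hK : commutator K = ⊤) {G : Type u} [Group G] [Finite G]
    (ρ : G →* Matrix.GeneralLinearGroup (Fin n) k) (hρ : Function.Injective ρ)
    (hsd : ∀ g : G, (ρ g⁻¹).1.charpoly = (ρ g).1.charpoly) {Z : Subgroup G} [Z.Normal]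
    (hZ : Z ≤ Subgroup.center G) (f : K →* G ⧸ Z) (hf : Function.Injective f) :
    CvS (K ⧸ Subgroup.center K) n k := by
  -- the preimage
  let P₀ : Subgroup G := f.range.comap (QuotientGroup.mk' Z)
  have hZP : Z ≤ P₀ := by
    intro z hz
    show QuotientGroup.mk' Z z ∈ f.range
    rw [show QuotientGroup.mk' Z z = 1 from (QuotientGroup.eq_one_iff z).2 hz]
    exact one_mem _
  have hmap : P₀.map (QuotientGroup.mk' Z) = f.range := by
    rw [Subgroup.map_comap_eq_self_of_surjective (QuotientGroup.mk'_surjective Z)]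
  let P : Subgroup G := ⁅P₀, P₀⁆
  have hfr : ⁅f.range, f.range⁆ = f.range := by
    rw [MonoidHom.range_eq_map, ← Subgroup.map_commutator, ← commutator_def, hK]
  have hPmap : P.map (QuotientGroup.mk' Z) = f.range := by
    rw [Subgroup.map_commutator, hmap, hfr]
  have hPP : P ≤ P₀ := Subgroup.commutator_le.2 fun a ha b hb => by
    rw [commutatorElement_def]
    exact P₀.mul_mem (P₀.mul_mem (P₀.mul_mem ha hb) (P₀.inv_mem ha)) (P₀.inv_mem hb)
  have hdec : ∀ x ∈ P₀, ∃ y ∈ P, ∃ z ∈ Z, x = y * z := by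
    intro x hx
    have h1 : QuotientGroup.mk' Z x ∈ P.map (QuotientGroup.mk' Z) := by rw [hPmap]; exact hx
    obtain ⟨y, hy, hyx⟩ := h1
    refine ⟨y, hy, y⁻¹ * x, QuotientGroup.eq.1 hyx, by group⟩
  have hperf : ⁅P, P⁆ = P := by
    apply le_antisymm
    · exact (Subgroup.commutator_mono hPP hPP)
    · refine Subgroup.commutator_le.2 ?_
      intro a ha b hb
      obtain ⟨y, hy, z, hz, rfl⟩ := hdec a ha
      obtain ⟨y', hy', z', hz', rfl⟩ := hdec b hb
      have hc1 := fun g => (Subgroup.mem_center_iff.1 (hZ hz) g)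
      have hc2 := fun g => (Subgroup.mem_center_iff.1 (hZ hz') g)
      have : ⁅y * z, y' * z'⁆ = ⁅y, y'⁆ := by
        rw [commutatorElement_def, commutatorElement_def]
        calc y * z * (y' * z') * (y * z)⁻¹ * (y' * z')⁻¹
            = y * (z * y') * z' * z⁻¹ * (y⁻¹ * z'⁻¹) * y'⁻¹ := by group
          _ = y * (y' * z) * z' * z⁻¹ * (y⁻¹ * z'⁻¹) * y'⁻¹ := by rw [← hc1 y']
          _ = y * y' * (z * z') * z⁻¹ * (y⁻¹ * z'⁻¹) * y'⁻¹ := by group
          _ = y * y' * (z' * z) * z⁻¹ * (y⁻¹ * z'⁻¹) * y'⁻¹ := by rw [← hc1 z']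
          _ = y * y' * (z' * y⁻¹) * z'⁻¹ * y'⁻¹ := by group
          _ = y * y' * (y⁻¹ * z') * z'⁻¹ * y'⁻¹ := by rw [← hc2 y⁻¹]
          _ = y * y' * y⁻¹ * y'⁻¹ := by group
      rw [this]
      exact Subgroup.commutator_mem_commutator hy hy'
  -- the map to `K`
  let eK : K ≃* f.range := MonoidHom.ofInjective hf
  let π₁ : P →* f.range := ((QuotientGroup.mk' Z).comp P.subtype).codRestrict f.range (by
    intro x
    exact hPP x.2)
  have hπ₁ : Function.Surjective π₁ := by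
    rintro ⟨y, hy⟩
    rw [← hPmap] at hy
    obtain ⟨x, hx, hxy⟩ := hy
    exact ⟨⟨x, hx⟩, Subtype.ext hxy⟩
  let π : P →* K ⧸ Subgroup.center K := ((QuotientGroup.mk' (Subgroup.center K)).comp eK.symm.toMonoidHom).comp π₁
  have hπ : Function.Surjective π :=
    (QuotientGroup.mk'_surjective _).comp (eK.symm.surjective.comp hπ₁)
  have hk1 : ∀ x : P, π₁ x = 1 ↔ x.1 ∈ Z := by
    intro x
    constructor
    · intro h
      have h1 : QuotientGroup.mk' Z x.1 = 1 := congrArg Subtype.val h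
      exact (QuotientGroup.eq_one_iff _).1 h1
    · intro h
      exact Subtype.ext ((QuotientGroup.eq_one_iff _).2 h)
  have hPcomm : commutator P = ⊤ := by
    have h1 : (commutator P).map P.subtype = P := by
      rw [commutator_def, Subgroup.map_commutator, ← MonoidHom.range_eq_map, Subgroup.range_subtype, hperf]
    apply Subgroup.map_injective P.subtype_injective
    rw [h1, ← MonoidHom.range_eq_map, Subgroup.range_subtype]
  have hker : π.ker ≤ Subgroup.center P := by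
    intro x hx
    have h1 : eK.symm (π₁ x) ∈ Subgroup.center K := (QuotientGroup.eq_one_iff _).1 (MonoidHom.mem_ker.1 hx)
    have h2 : ∀ y : P, x * y * x⁻¹ * y⁻¹ ∈ Z.subgroupOf P := by
      intro y
      rw [Subgroup.mem_subgroupOf, ← hk1]
      have h3 := Subgroup.mem_center_iff.1 h1 (eK.symm (π₁ y))
      have h4 : π₁ y * π₁ x = π₁ x * π₁ y := by
        apply eK.symm.injective
        rw [map_mul, map_mul]
        exact h3
      rw [map_mul, map_mul, map_mul, map_inv, map_inv, ← h4]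
      group
    let F : P →* Z.subgroupOf P :=
      { toFun := fun y => ⟨x * y * x⁻¹ * y⁻¹, h2 y⟩
        map_one' := by apply Subtype.ext; simp
        map_mul' := by
          intro a b
          apply Subtype.ext
          show x * (a * b) * x⁻¹ * (a * b)⁻¹ = (x * a * x⁻¹ * a⁻¹) * (x * b * x⁻¹ * b⁻¹)
          have h3 : ∀ g : P, g * (x * b * x⁻¹ * b⁻¹) = (x * b * x⁻¹ * b⁻¹) * g := by
            intro g
            apply Subtype.ext
            exact Subgroup.mem_center_iff.1 (hZ (Subgroup.mem_subgroupOf.1 (h2 b))) g.1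
          calc x * (a * b) * x⁻¹ * (a * b)⁻¹ = x * a * x⁻¹ * ((x * b * x⁻¹ * b⁻¹) * a⁻¹) := by group
            _ = x * a * x⁻¹ * (a⁻¹ * (x * b * x⁻¹ * b⁻¹)) := by rw [h3 a⁻¹]
            _ = (x * a * x⁻¹ * a⁻¹) * (x * b * x⁻¹ * b⁻¹) := by group }
    have hF : commutator P ≤ F.ker := by
      rw [commutator_def, Subgroup.commutator_le]
      intro a _ b _
      rw [MonoidHom.mem_ker, map_commutatorElement]
      apply Subtype.ext
      apply Subtype.ext
      have h3 := Subgroup.mem_center_iff.1 (hZ (Subgroup.mem_subgroupOf.1 (F a).2)) (F b).1.1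
      rw [commutatorElement_def]
      show (F a).1.1 * (F b).1.1 * (F a).1.1⁻¹ * (F b).1.1⁻¹ = 1
      rw [← h3]
      group
    rw [Subgroup.mem_center_iff]
    intro y
    have h5 : F y = 1 := hF (by rw [hPcomm]; trivial)
    have h6 : x * y * x⁻¹ * y⁻¹ = 1 := congrArg Subtype.val h5
    have h7 : x * y = y * x := by
      calc x * y = (x * y * x⁻¹ * y⁻¹) * y * x := by group
        _ = y * x := by rw [h6]; group
    exact h7.symm
  refine ⟨P, inferInstance, inferInstance, π, ρ.comp P.subtype, hπ, hker, hPcomm, ?_, fun g => hsd g.1⟩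
  intro x hx
  have h1 : ρ x.1 = 1 := hx
  have h2 : x.1 = 1 := hρ (by rw [h1, map_one])
  have h3 : x = 1 := Subtype.ext h2
  rw [h3]
  exact one_mem _

end form


section eleven

variable {n : ℕ} {k : Type u} [Field k]

theorem exists_mem_spectrum_ne_one {L : Type u} [Field L] [IsAlgClosed L] {M : Matrix (Fin n) (Fin n) L} {N : ℕ}
    (hM : M ^ N = 1) (hN : (N : L) ≠ 0) (h1 : M ≠ 1) : ∃ c ∈ spectrum L M, c ≠ 1 := by
  by_contra hcon
  push Not at hcon
  have hne : n ≠ 0 := by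
    rintro rfl
    exact h1 (Subsingleton.elim _ _)
  have : NeZero n := ⟨hne⟩
  have hnt : Nontrivial (Matrix (Fin n) (Fin n) L) := inferInstance
  let Q : Polynomial L := ∑ i ∈ Finset.range N, Polynomial.X ^ i
  have hQ : (M - 1) * Polynomial.aeval M Q = 0 := by
    have h2 : Polynomial.aeval M ((Polynomial.X - 1) * Q) = 0 := by
      rw [mul_geom_sum]
      simp [hM]
    rw [map_mul] at h2
    simpa using h2
  have hu : IsUnit (Polynomial.aeval M Q) := by
    rw [← spectrum.zero_notMem_iff L]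
    intro h0
    have hnon : (spectrum L M).Nonempty := spectrum.nonempty_of_isAlgClosed_of_finiteDimensional L M
    rw [spectrum.map_polynomial_aeval_of_nonempty M Q hnon] at h0
    obtain ⟨c, hc, hc0⟩ := h0
    rw [hcon c hc] at hc0
    have h3 : Polynomial.eval 1 Q = (N : L) := by simp [Q, Polynomial.eval_finsetSum]
    exact hN (h3.symm.trans hc0)
  obtain ⟨U, hU⟩ := hu
  have h4 : (M - 1) * Polynomial.aeval M Q * (↑U⁻¹ : Matrix (Fin n) (Fin n) L) = 0 := by rw [hQ, zero_mul]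
  rw [← hU, mul_assoc, Units.mul_inv, mul_one] at h4
  exact h1 (sub_eq_zero.1 h4)

theorem orb_eleven : ∀ κ j : ZMod 11, κ ^ 5 = 1 → κ ≠ 1 → j ≠ 0 → ∃ i : Fin 5, j = κ ^ (i : ℕ) ∨ j = - κ ^ (i : ℕ) := by
  decide

/-- **Self-dual representations of groups with a Frobenius subgroup `11:5` have degree at least `10`.** -/
theorem ten_le_of_fb {T : Type v} [Group T] (h : CvS T n k) (hfb : H61.SpAlt.Fb 11 5 T) (h11 : (11 : k) ≠ 0) :
    10 ≤ n := by
  obtain ⟨P, _, _, π, ρ, hπ, hker, -, hρ, hsd⟩ := h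
  obtain ⟨a, x, κ, ha, hx, hc, hκ⟩ := hfb
  have h11p : Nat.Prime 11 := by norm_num
  have hF : Fact (Nat.Prime 11) := ⟨h11p⟩
  have hcpow : ∀ i : ℕ, x ^ i * a * (x ^ i)⁻¹ = a ^ κ ^ i := by
    intro i
    induction i with
    | zero => simp
    | succ i ih =>
      calc x ^ (i + 1) * a * (x ^ (i + 1))⁻¹ = x * (x ^ i * a * (x ^ i)⁻¹) * x⁻¹ := by rw [pow_succ']; group
        _ = x * a ^ κ ^ i * x⁻¹ := by rw [ih]
        _ = (x * a * x⁻¹) ^ κ ^ i := (conj_pow).symm
        _ = a ^ κ ^ (i + 1) := by rw [hc, ← pow_mul, ← pow_succ']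
  have hκ5 : κ ^ 5 ≡ 1 [MOD 11] := by
    have h1 := hcpow 5
    rw [show x ^ 5 = 1 by rw [← hx]; exact pow_orderOf_eq_one x, one_mul, inv_one, mul_one] at h1
    rw [← ha]
    apply (pow_eq_pow_iff_modEq (x := a)).1
    rw [pow_one]; exact h1.symm
  have hκ1 : ¬ κ ≡ 1 [MOD 11] := fun h => hκ 1 (by norm_num) (by norm_num) (by rw [pow_one]; exact h)
  have hκ0 : κ ≠ 0 := by
    rintro rfl
    exact absurd hκ5 (by decide)
  -- the lifts
  obtain ⟨x₀, hx₀⟩ := hπ a
  obtain ⟨t, ht⟩ := hπ x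
  set z := (x₀ ^ κ)⁻¹ * (t * x₀ * t⁻¹) with hz
  have hzk : π z = 1 := by
    rw [hz, map_mul, map_inv, map_pow, map_mul, map_mul, map_inv, hx₀, ht, hc]; group
  have hzc : ∀ g, g * z = z * g := fun g => Subgroup.mem_center_iff.1 (hker (MonoidHom.mem_ker.2 hzk)) g
  have htx : t * x₀ * t⁻¹ = x₀ ^ κ * z := by rw [hz]; group
  set y := x₀ ^ (κ - 1) * z with hy
  have hty : t * y * t⁻¹ = y ^ κ := by
    have hcm : Commute (x₀ ^ (κ - 1)) z := hzc _
    have hcm2 : Commute (x₀ ^ κ) z := hzc _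
    have htz : t * z * t⁻¹ = z := by rw [hzc t]; group
    calc t * y * t⁻¹ = (t * x₀ * t⁻¹) ^ (κ - 1) * (t * z * t⁻¹) := by rw [hy, conj_pow]; group
      _ = (x₀ ^ κ * z) ^ (κ - 1) * z := by rw [htx, htz]
      _ = (x₀ ^ κ) ^ (κ - 1) * z ^ (κ - 1) * z := by rw [hcm2.mul_pow]
      _ = (x₀ ^ (κ - 1)) ^ κ * z ^ κ := by
        rw [mul_assoc, ← pow_succ, show κ - 1 + 1 = κ by omega, ← pow_mul, ← pow_mul, mul_comm κ]
      _ = y ^ κ := by rw [hy, hcm.mul_pow]
  obtain ⟨e, m, hm, hN⟩ := Nat.exists_eq_pow_mul_and_not_dvd (orderOf_pos y).ne' 11 (by norm_num)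
  set w := y ^ m with hw
  have hwN : w ^ 11 ^ e = 1 := by
    rw [hw, ← pow_mul, mul_comm, ← hN]; exact pow_orderOf_eq_one y
  have htw : t * w * t⁻¹ = w ^ κ := by
    rw [hw, ← conj_pow, hty, ← pow_mul, ← pow_mul, mul_comm]
  have hπw : π w ≠ 1 := by
    rw [hw, map_pow, hy, map_mul, hzk, mul_one, map_pow, hx₀, ← pow_mul]
    intro h1
    have h2 : 11 ∣ (κ - 1) * m := by rw [← ha]; exact orderOf_dvd_of_pow_eq_one h1
    rcases (h11p.dvd_mul).1 h2 with h3 | h3
    · exact hκ1 ((Nat.modEq_iff_dvd' (by omega)).2 h3).symm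
    · exact hm h3
  have hρw : ρ w ≠ 1 := fun h1 => hπw (MonoidHom.mem_ker.1 (hρ (MonoidHom.mem_ker.2 h1)))
  -- over the algebraic closure
  classical
  let L := AlgebraicClosure k
  let σ : Matrix.GeneralLinearGroup (Fin n) k →* Matrix.GeneralLinearGroup (Fin n) L :=
    Matrix.GeneralLinearGroup.map (algebraMap k L)
  have hval : ∀ g, (σ g).1 = g.1.map (algebraMap k L) := fun g => rfl
  have hinj : Function.Injective (algebraMap k L) := (algebraMap k L).injective
  set M := σ (ρ w) with hM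
  have hMN : M.1 ^ 11 ^ e = 1 := by
    rw [← Units.val_pow_eq_pow_val, hM, ← map_pow, ← map_pow, hwN, map_one, map_one]; rfl
  have hM1 : M.1 ≠ 1 := by
    intro h1
    apply hρw
    apply Units.ext
    apply Matrix.map_injective hinj
    have h2 : (ρ w).1.map (algebraMap k L) = 1 := h1
    show (ρ w).1.map (algebraMap k L) = (1 : Matrix (Fin n) (Fin n) k).map (algebraMap k L)
    rw [h2, Matrix.map_one _ (map_zero _) (map_one _)]
  have hL11 : ((11 ^ e : ℕ) : L) ≠ 0 := by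
    rw [Nat.cast_pow]
    apply pow_ne_zero
    intro h1
    apply h11
    apply hinj
    have h2 : algebraMap k L 11 = ((11 : ℕ) : L) := by
      rw [← map_natCast (algebraMap k L) 11]; norm_num
    rw [map_zero, ← h1, h2]
  obtain ⟨c, hcs, hc1⟩ := exists_mem_spectrum_ne_one hMN hL11 hM1
  have hroots : ∀ b : L, b ∈ spectrum L M.1 ↔ b ∈ M.1.charpoly.roots.toFinset := by
    intro b
    rw [Multiset.mem_toFinset, Polynomial.mem_roots (Matrix.charpoly_monic _).ne_zero]
    exact Matrix.mem_spectrum_iff_isRoot_charpoly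
  have hcardR : M.1.charpoly.roots.toFinset.card ≤ n := by
    refine (Multiset.toFinset_card_le _).trans ((Polynomial.card_roots' _).trans ?_)
    rw [Matrix.charpoly_natDegree_eq_dim, Fintype.card_fin]
  have hinv : ∀ b ∈ spectrum L M.1, b⁻¹ ∈ spectrum L M.1 := by
    intro b hb
    have h1 : b⁻¹ ∈ spectrum L (M⁻¹).1 := by
      rw [← spectrum.map_inv M, Set.mem_inv, inv_inv]
      exact hb
    have h2 : (M⁻¹).1.charpoly = M.1.charpoly := by
      have h3 : M⁻¹ = σ (ρ w⁻¹) := by rw [map_inv ρ, map_inv σ]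
      rw [h3, hval, hM, hval, Matrix.charpoly_map, Matrix.charpoly_map, hsd]
    rw [Matrix.mem_spectrum_iff_isRoot_charpoly, h2, ← Matrix.mem_spectrum_iff_isRoot_charpoly] at h1
    exact h1
  have hpow : ∀ b ∈ spectrum L M.1, b ^ κ ∈ spectrum L M.1 := by
    intro b hb
    have h1 : b ^ κ ∈ spectrum L (M.1 ^ κ) := spectrum.pow_mem_pow M.1 κ hb
    have h2 : M.1 ^ κ = (σ (ρ t)).1 * M.1 * (σ (ρ t))⁻¹.1 := by
      rw [← Units.val_pow_eq_pow_val, ← Units.val_mul, ← Units.val_mul, hM]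
      congr 1
      rw [← map_pow, ← map_pow, ← htw, map_mul, map_mul, map_mul, map_mul, map_inv, map_inv]
    rw [h2, spectrum.units_conjugate] at h1
    exact h1
  -- the order of the eigenvalue
  have hcN : c ^ 11 ^ e = 1 := by
    have h1 := spectrum.pow_mem_pow M.1 (11 ^ e) hcs
    rw [hMN] at h1
    have hne : n ≠ 0 := by
      rintro rfl
      exact hM1 (Subsingleton.elim _ _)
    have : NeZero n := ⟨hne⟩
    have hnt : Nontrivial (Matrix (Fin n) (Fin n) L) := inferInstance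
    rw [spectrum.one_eq] at h1
    exact h1
  obtain ⟨b, hb, hb'⟩ := (Nat.dvd_prime_pow h11p).1 (orderOf_dvd_of_pow_eq_one hcN)
  have hb0 : b ≠ 0 := by
    rintro rfl
    rw [pow_zero, orderOf_eq_one_iff] at hb'
    exact hc1 hb'
  set ζ := c ^ 11 ^ (b - 1) with hζ
  have hζo : orderOf ζ = 11 := by
    rw [hζ, orderOf_pow_of_dvd (by positivity) (by rw [hb']; exact pow_dvd_pow 11 (by omega)), hb',
      Nat.pow_div (by omega) (by norm_num), show b - (b - 1) = 1 by omega, pow_one]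
  have hζ0 : ζ ≠ 0 := by
    intro h0
    have := pow_orderOf_eq_one ζ
    rw [hζo, h0, zero_pow (by norm_num)] at this
    exact zero_ne_one this
  let R := (M.1.charpoly.roots.toFinset).image (fun r => r ^ 11 ^ (b - 1))
  have hRcard : R.card ≤ n := Finset.card_image_le.trans hcardR
  have hRζ : ζ ∈ R := Finset.mem_image.2 ⟨c, (hroots c).1 hcs, rfl⟩
  have hRinv : ∀ r ∈ R, r⁻¹ ∈ R := by
    intro r hr
    obtain ⟨s, hs, rfl⟩ := Finset.mem_image.1 hr
    exact Finset.mem_image.2 ⟨s⁻¹, (hroots _).1 (hinv s ((hroots s).2 hs)), by rw [inv_pow]⟩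
  have hRpow : ∀ r ∈ R, r ^ κ ∈ R := by
    intro r hr
    obtain ⟨s, hs, rfl⟩ := Finset.mem_image.1 hr
    exact Finset.mem_image.2 ⟨s ^ κ, (hroots _).1 (hpow s ((hroots s).2 hs)), by rw [← pow_mul, ← pow_mul, mul_comm]⟩
  have hRi : ∀ i : ℕ, ζ ^ κ ^ i ∈ R := by
    intro i
    induction i with
    | zero => simpa using hRζ
    | succ i ih => rw [pow_succ, pow_mul]; exact hRpow _ ih
  have hall : ∀ j ∈ Finset.Icc 1 10, ζ ^ j ∈ R := by
    intro j hj
    rw [Finset.mem_Icc] at hj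
    have hκz : ((κ : ZMod 11)) ^ 5 = 1 := by
      have := (ZMod.natCast_eq_natCast_iff _ _ _).2 hκ5
      rw [Nat.cast_pow, Nat.cast_one] at this
      exact this
    have hκz1 : (κ : ZMod 11) ≠ 1 := by
      intro h1
      apply hκ1
      apply (ZMod.natCast_eq_natCast_iff _ _ _).1
      rw [Nat.cast_one]; exact h1
    have hjz : (j : ZMod 11) ≠ 0 := by
      intro h1
      have := (ZMod.natCast_eq_zero_iff j 11).1 h1
      have := Nat.le_of_dvd (by omega) this
      omega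
    obtain ⟨i, hi | hi⟩ := orb_eleven κ j hκz hκz1 hjz
    · have h1 : ζ ^ j = ζ ^ κ ^ (i : ℕ) := by
        have h2 : j ≡ κ ^ (i : ℕ) [MOD 11] := by
          apply (ZMod.natCast_eq_natCast_iff _ _ _).1
          rw [Nat.cast_pow]; exact hi
        have h3 : j % 11 = κ ^ (i : ℕ) % 11 := h2
        rw [← pow_mod_orderOf ζ j, ← pow_mod_orderOf ζ (κ ^ (i : ℕ)), hζo, h3]
      rw [h1]; exact hRi _
    · have h1 : ζ ^ j = (ζ ^ κ ^ (i : ℕ))⁻¹ := by
        apply eq_inv_of_mul_eq_one_left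
        rw [← pow_add, ← orderOf_dvd_iff_pow_eq_one, hζo, ← ZMod.natCast_eq_zero_iff, Nat.cast_add, Nat.cast_pow, hi]
        ring
      rw [h1]; exact hRinv _ (hRi _)
  have hsub : (Finset.Icc 1 10).image (fun j => ζ ^ j) ⊆ R := by
    intro r hr
    obtain ⟨j, hj, rfl⟩ := Finset.mem_image.1 hr
    exact hall j hj
  have h10 : ((Finset.Icc 1 10).image (fun j => ζ ^ j)).card = 10 := by
    rw [Finset.card_image_of_injOn]
    · rfl
    · intro i hi j hj hij
      rw [Finset.coe_Icc, Set.mem_Icc] at hi hj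
      have hprim : IsPrimitiveRoot ζ 11 := by
        have := IsPrimitiveRoot.orderOf ζ
        rwa [hζo] at this
      exact hprim.pow_inj (by omega) (by omega) hij
  rw [← h10]
  exact (Finset.card_le_card hsub).trans hRcard

end eleven


/-- the simple groups left over -/
inductive Left (T : Type v) [Group T] : Prop
  | psu3 (F : Type) [Field F] [Fintype F] (hF : Fintype.card F = 9) (e : T ≃* PSU 3 F 3)
  | psp4 (F : Type) [Field F] [Fintype F] (hF : Fintype.card F = 3) (e : T ≃* Cfsg.PSp 2 F)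
  | psu4 (F : Type) [Field F] [Fintype F] (hF : Fintype.card F = 9) (e : T ≃* PSU 4 F 3)
  | o7 (F : Type) [Field F] [Fintype F] (hF : Fintype.card F = 3) (e : T ≃* Cfsg.POmega F (Cfsg.quadFormOdd 3 F))
  | sp6 (F : Type) [Field F] [Fintype F] (hF : Fintype.card F = 2) (e : T ≃* Cfsg.PSp 3 F)
  | o8 (F : Type) [Field F] [Fintype F] (hF : Fintype.card F = 2) (e : T ≃* Cfsg.POmega F (Cfsg.quadFormPlus 4 F))

section eight

variable {T : Type v} [Group T] [Finite T] [IsSimpleGroup T] {n : ℕ} {k : Type u} [Field k]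

theorem card_pgl {F : Type*} [Field F] [Fintype F] {m : ℕ} (hm : 2 ≤ m) : Nat.card (Matrix.ProjGenLinGroup (Fin m) F) =
    Nat.gcd m (Fintype.card F - 1) * Nat.card (Matrix.ProjectiveSpecialLinearGroup (Fin m) F) := by
  classical
  have : NeZero m := ⟨by omega⟩
  have h1 := Cfsg.Agent.S0243.result (F := F) rfl m hm
  have h2 : Nat.card (Matrix.ProjGenLinGroup (Fin m) F) * (Fintype.card F - 1) =
      Nat.card (Matrix.GeneralLinearGroup (Fin m) F) :=
    Cfsg.Agent.ClassicalGeometry.PSL2Basic.card_PGL_mul (Fin m) F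
  rw [Matrix.card_GL_field, ← h1] at h2
  have h3 : 0 < Fintype.card F - 1 := by
    have := Fintype.one_lt_card (α := F)
    omega
  have h4 : Nat.card (Matrix.ProjGenLinGroup (Fin m) F) * (Fintype.card F - 1) =
    (Nat.gcd m (Fintype.card F - 1) * Nat.card (Matrix.ProjectiveSpecialLinearGroup (Fin m) F)) *
      (Fintype.card F - 1) := by
    rw [h2]; ring
  exact Nat.eq_of_mul_eq_mul_right h3 h4

/-- the automorphism group of `PSL_m(q)` -/
theorem card_mulAut_l {m p f : ℕ} (hg : IsLie (.psl m (p ^ f)) (.L m) p f) (hT : OrdDiv.Real (.psl m (p ^ f)) T)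
    (hR : Art.Real (.L m) p f (Nat.card T)) :
    Nat.card (MulAut T) = (if m = 2 then 1 else 2) * f * ((p ^ f) ^ Art.NN (.L m) * Art.num (.L m) (p ^ f)) := by
  obtain ⟨K, _, _, hK, ⟨e⟩⟩ := hT
  have := Fact.mk hR.hp
  rw [Nat.card_congr (MulAut.congr e).toEquiv, S0813.result p f hR.hf hK m hR.ok.1 hR.ok.2, card_pgl hR.ok.1,
    ← Nat.card_congr e.toEquiv, hK, ← hR.eq]
  rfl

theorem chk_l2 : ∀ p < 18, ∀ f < 3, (3 ≤ p ∧ p % 2 = 1 ∧ 1 ≤ f ∧ p ^ f ≤ 18) →
    ¬ 2 ^ 6 ∣ 1 * f * Art.num (.L 2) (p ^ f) := by decide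

theorem chk_l3 : ¬ 2 ^ 6 ∣ 2 * 1 * Art.num (.L 3) (3 ^ 1) := by decide

theorem eq_three {p f : ℕ} (hp : p.Prime) (hf : 1 ≤ f) (h : p ^ f = 3) : p = 3 ∧ f = 1 := by
  have h1 : p ∣ 3 := by rw [← h]; exact dvd_pow_self p (by omega)
  have h2 : p = 3 := (Nat.prime_dvd_prime_iff_eq hp Nat.prime_three).1 h1
  subst h2
  exact ⟨rfl, Nat.pow_right_injective (show 2 ≤ 3 by norm_num) (by simpa using h)⟩

theorem eight_lie (hna : ¬ IsMulCommutative T) {g : Grp} {X : Art.Sh} {p f : ℕ} (hg : IsLie g X p f)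
    (hT : OrdDiv.Real g T) (hR : Art.Real X p f (Nat.card T)) (h2 : p ≠ 2) (hpk : (p : k) ≠ 0) (h : CvS T n k)
    (hn : n ≤ 8) (h6 : 2 ^ 6 ∣ Nat.card (MulAut T)) : Left T := by
  have hlo : lo X (p ^ f) ≤ 8 := (lo_le h.cv hg hT hR h2 hpk).trans hn
  have hp3 : 3 ≤ p := by have := hR.hp.two_le; omega
  have hodd : p % 2 = 1 := Nat.odd_iff.1 (hR.hp.odd_of_ne_two h2)
  have hq : 3 ≤ p ^ f := hp3.trans (Nat.le_self_pow (by have := hR.hf; omega) p)
  have hqo : (p ^ f) % 2 = 1 := Nat.odd_iff.1 ((hR.hp.odd_of_ne_two h2).pow)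
  have hf := hR.hf
  have hpow : ∀ (j : ℕ) {N : ℕ}, (p ^ f) ^ j ≤ N → 3 ^ j ≤ N := fun j N hN => (Nat.pow_le_pow_left hq j).trans hN
  have hmul : ∀ (j : ℕ) {N : ℕ}, (p ^ f - 1) * (p ^ f) ^ j ≤ N → 2 * 3 ^ j ≤ N := fun j N hN =>
    (Nat.mul_le_mul (by omega) (Nat.pow_le_pow_left hq j)).trans hN
  have hNT : Nontrivial T := inferInstance
  cases hg with
  | psl m p f =>
    exfalso
    have hcard := card_mulAut_l (IsLie.psl m p f) hT hR
    have hm2 := hR.ok.1
    change (if m = 2 then (if p ^ f = 9 then 0 else (p ^ f - 1) / 2) else (p ^ f) ^ (m - 1) - 1) ≤ 8 at hlo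
    by_cases hm : m = 2
    · subst hm
      have hq18 : p ^ f ≤ 18 := by
        rw [if_pos rfl] at hlo
        split_ifs at hlo <;> omega
      have hp18 : p ≤ p ^ f := Nat.le_self_pow (by omega) p
      have hp17 : p < 18 := by
        rcases Nat.lt_or_ge p 18 with h | h
        · exact h
        · have : p ^ f = 18 := by omega
          omega
      have hf3 : f < 3 := by
        by_contra hcon
        have : 3 ^ 3 ≤ p ^ f := (Nat.pow_le_pow_left hp3 3).trans (Nat.pow_le_pow_right (by omega) (by omega))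
        omega
      rw [if_pos rfl] at hcard
      exact not_dvd_of_odd hR.hp h2 (dvd_of_eq hcard) (chk_l2 p hp17 f hf3 ⟨hp3, hodd, hf, hq18⟩) h6
    · rw [if_neg hm] at hlo hcard
      have h3 : m = 3 := by
        by_contra hcon
        have h4 : 3 ^ 3 ≤ (p ^ f) ^ (m - 1) := (Nat.pow_le_pow_left hq 3).trans (Nat.pow_le_pow_right (by omega) (by omega))
        omega
      subst h3
      have hq3 : p ^ f = 3 := by
        by_contra hcon
        have h4 : 4 ^ 2 ≤ (p ^ f) ^ 2 := Nat.pow_le_pow_left (by omega) 2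
        change (p ^ f) ^ 2 - 1 ≤ 8 at hlo
        omega
      obtain ⟨rfl, rfl⟩ := eq_three hR.hp hf hq3
      exact not_dvd_of_odd hR.hp h2 (dvd_of_eq hcard) chk_l3 h6
  | psp m p f =>
    obtain ⟨K, _, _, hK, ⟨e⟩⟩ := hT
    have h1 := le_psp h.cv hR.hp h2 hf hpk hK hR.ok.1 hR.ok.2 e
    have hm2 := hR.ok.1
    have h3 : m = 2 := by
      by_contra hcon
      have h4 : 3 ^ 3 ≤ (p ^ f) ^ m := (Nat.pow_le_pow_left hq 3).trans (Nat.pow_le_pow_right (by omega) (by omega))
      omega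
    subst h3
    have hq3 : p ^ f = 3 := by
      by_contra hcon
      have h4 : 5 ^ 2 ≤ (p ^ f) ^ 2 := Nat.pow_le_pow_left (by omega) 2
      omega
    exact .psp4 K (by rw [hK, hq3]) e
  | oodd m p f hm ho =>
    obtain ⟨K, _, _, hK, ⟨e⟩⟩ := hT
    rcases le_oodd h.cv hR.hp h2 hpk hK hm e with ⟨rfl, h3⟩ | h1
    · exact .o7 K (by rw [hK, h3]) e
    · exfalso
      have h3 := hmul _ (h1.trans hn)
      have h4 : 3 ^ 3 ≤ 3 ^ (2 * m - 3) := Nat.pow_le_pow_right (by omega) (by omega)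
      omega
  | psu m p f =>
    obtain ⟨K, _, _, hK, ⟨e⟩⟩ := hT
    have hm3 := hR.ok.1
    change (if m = 4 ∧ p ^ f = 3 then 0 else (p ^ f - 1) * (p ^ f) ^ (m - 2)) ≤ 8 at hlo
    split_ifs at hlo with h3
    · obtain ⟨rfl, h3⟩ := h3
      rw [h3] at hK e
      exact .psu4 K hK e
    · have h4 := hmul _ hlo
      have h5 : m = 3 := by
        by_contra hcon
        have h4 : 3 ^ 2 ≤ 3 ^ (m - 2) := Nat.pow_le_pow_right (by omega) (by omega)
        omega
      subst h5
      have hq3 : p ^ f = 3 := by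
        by_contra hcon
        have h4 : 4 * 5 ≤ (p ^ f - 1) * (p ^ f) := Nat.mul_le_mul (by omega) (by omega)
        change (p ^ f - 1) * (p ^ f) ^ 1 ≤ 8 at hlo
        rw [pow_one] at hlo
        omega
      rw [hq3] at hK e
      exact .psu3 K hK e
  | oplus m p f =>
    exfalso
    have hm4 : 4 ≤ m := hR.ok
    have h3 := hmul (2 * m - 4) hlo
    have h4 : 3 ^ 4 ≤ 3 ^ (2 * m - 4) := Nat.pow_le_pow_right (by omega) (by omega)
    omega
  | ominus m p f =>
    exfalso
    have hm4 : 4 ≤ m := hR.ok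
    have h3 := hmul (2 * m - 4) hlo
    have h4 : 3 ^ 4 ≤ 3 ^ (2 * m - 4) := Nat.pow_le_pow_right (by omega) (by omega)
    omega
  | g2 p f =>
    exfalso
    obtain ⟨K, _, _, hK, ⟨e⟩⟩ := hT
    change (p ^ f - 1) * p ^ f ≤ 8 at hlo
    have hq3 : p ^ f = 3 := by
      by_contra hcon
      have h4 : 4 * 5 ≤ (p ^ f - 1) * (p ^ f) := Nat.mul_le_mul (by omega) (by omega)
      omega
    obtain ⟨rfl, rfl⟩ := eq_three hR.hp hf hq3
    have h5 := h.cv.ls (r := 3) (by exact_mod_cast hpk)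
      ((H95.LSx.G23.ls.{0, u, u} (K := K) (by rw [hK, hq3])).congr e.symm)
    omega
  | f4 p f => exact absurd (hmul 4 hlo) (by norm_num)
  | e6 p f => exact absurd (hmul 10 hlo) (by norm_num)
  | e7 p f => exact absurd (hmul 16 hlo) (by norm_num)
  | e8 p f => exact absurd (hmul 28 hlo) (by norm_num)
  | te6 p f => exact absurd (hmul 6 hlo) (by norm_num)
  | td4 p f => exact absurd (hmul 4 hlo) (by norm_num)
  | sz p f => exact absurd hR.ok.1 h2
  | ree p f =>
    exfalso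
    obtain ⟨K, _, _, m, hm, hK, hq', ⟨e⟩⟩ := hT
    change p ^ f - 1 ≤ 8 at hlo
    rw [hq'] at hlo
    have h4 : 3 ^ 3 ≤ 3 ^ (2 * m + 1) := Nat.pow_le_pow_right (by omega) (by omega)
    omega
  | tf4 p f => exact absurd hR.ok.1 h2

/-- **Degree at most `8`.** -/
theorem eight (tb : OrderTable.{v}) (hna : ¬ IsMulCommutative T) (hQ : Qs T) {p : ℕ} [CharP k p]
    (hp : ¬ p ∣ Nat.card T) (h : CvS T n k) (hn : n ≤ 8) (h6 : 2 ^ 6 ∣ Nat.card (MulAut T)) : Left T := by
  rcases hQ with ⟨r, hr, hr2, hL⟩ | hQ | hQ | ⟨F, _, _, hF, hQ | hQ⟩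
  · obtain ⟨g, X, f, hg, hT, hR⟩ := H364.LieNam.lie_nam tb hr hL
    have hrk : (r : k) ≠ 0 := by
      intro h0
      exact hp (((CharP.cast_eq_zero_iff k p r).1 h0).trans (dvd_of_real hR))
    exact eight_lie hna hg hT hR hr2 hrk h hn h6
  · exfalso
    have h1 : Nat.card T = 7920 := tb.spor T (.m11, 7920) (by decide) hQ
    obtain ⟨e⟩ := hQ
    have h2 : Nat.card (Cfsg.Out T) = 1 := by
      rw [← S2060.result]
      exact H934.OutB.card_out_congr e
    rw [← H934.OutB.card_out_mul T hna, h1, h2] at h6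
    revert h6
    norm_num
  · exfalso
    have h1 : Nat.card T = 95040 := tb.spor T (.m12, 95040) (by decide) hQ
    obtain ⟨e⟩ := hQ
    have h11 : (11 : k) ≠ 0 := by
      intro h0
      have h3 : p ∣ 11 := (CharP.cast_eq_zero_iff k p 11).1 (by exact_mod_cast h0)
      exact hp (h3.trans (by rw [h1]; norm_num))
    have := ten_le_of_fb h (H61.SpAlt.fb_M12_eleven.map e.symm.toMonoidHom e.symm.injective) h11
    omega
  · exact .sp6 F hF hQ.some
  · exact .o8 F hF hQ.some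

/-- **Quasisimple subgroups of degree at most `8`.** `G` a finite group with a faithful self-dual representation of
degree `n ≤ 8`, `Z ≤ Z(G)`, `K ↪ G / Z` quasisimple. -/
theorem eight_quo {K : Type v} [Group K] [Finite K] (tb : OrderTable.{v}) (hK : IsQuasisimple K)
    (hQ : Qs (K ⧸ Subgroup.center K)) {p : ℕ} [CharP k p] (hp : ¬ p ∣ Nat.card K) (hn : n ≤ 8)
    {G : Type u} [Group G] [Finite G] (ρ : G →* Matrix.GeneralLinearGroup (Fin n) k) (hρ : Function.Injective ρ)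
    (hsd : ∀ g : G, (ρ g⁻¹).1.charpoly = (ρ g).1.charpoly) {Z : Subgroup G} [Z.Normal]
    (hZ : Z ≤ Subgroup.center G) (f : K →* G ⧸ Z) (hf : Function.Injective f)
    (h6 : 2 ^ 6 ∣ Nat.card (MulAut (K ⧸ Subgroup.center K))) : Left (K ⧸ Subgroup.center K) := by
  have hs := hK.2
  refine eight tb (nonab hK) hQ (p := p) (fun h => hp (h.trans (Subgroup.card_quotient_dvd_card _)))
    (CvS.of_quo hK.1.commutator_eq_top ρ hρ hsd hZ f hf) hn h6

end eight

end Cfsg.Agent.H418.NN
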