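import Mathlib
import Cfsg.Agent.OrdDiv.Main

/-!
# Box (N): the `2`-parts of the orders of the exceptional groups (helper418)
-/

set_option autoImplicit false

namespace Cfsg.Agent.H418.NN

open Cfsg Cfsg.Agent.OrdDiv

universe u

theorem eight_dvd {q : ℕ} (h : Odd q) : 2 ^ 3 ∣ q ^ 2 - 1 := by
  obtain ⟨c, rfl⟩ := h
  have h1 : (2 * c + 1) ^ 2 - 1 = 4 * (c * (c + 1)) := by
    have : (2 * c + 1) ^ 2 = 4 * (c * (c + 1)) + 1 := by ring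
    omega
  rw [h1]
  have h2 : 2 ∣ c * (c + 1) := (Nat.even_mul_succ_self c).two_dvd
  exact Nat.mul_dvd_mul (show 4 ∣ 4 from dvd_rfl) h2

theorem sq_dvd {q j : ℕ} (hj : 1 ≤ j) (hq : 1 ≤ q) (h : 2 ^ j ∣ q - 1) : 2 ^ (j + 1) ∣ q ^ 2 - 1 := by
  have h1 : q ^ 2 - 1 = (q - 1) * (q + 1) := by
    have := Nat.sq_sub_sq q 1
    rw [one_pow] at this
    rw [this, mul_comm]
  rw [h1, pow_succ]
  refine Nat.mul_dvd_mul h ?_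
  have h2 : 2 ∣ q - 1 := (dvd_pow_self 2 (by omega)).trans h
  have h3 : q + 1 = (q - 1) + 2 := by omega
  rw [h3]
  exact Nat.dvd_add h2 dvd_rfl

theorem d2 {q : ℕ} (h : Odd q) (i : ℕ) : 2 ^ 3 ∣ q ^ (2 * i) - 1 := by
  rw [pow_mul]
  exact (eight_dvd h).trans (by simpa using Nat.sub_dvd_pow_sub_pow (q ^ 2) 1 i)

theorem d4 {q : ℕ} (h : Odd q) (i : ℕ) : 2 ^ 4 ∣ q ^ (4 * i) - 1 := by
  have h1 : 2 ^ 4 ∣ q ^ 4 - 1 := by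
    have := sq_dvd (j := 3) (by norm_num) (Nat.one_le_pow 2 _ h.pos) (eight_dvd h)
    rwa [← pow_mul] at this
  rw [pow_mul]
  exact h1.trans (by simpa using Nat.sub_dvd_pow_sub_pow (q ^ 4) 1 i)

theorem d8 {q : ℕ} (h : Odd q) (i : ℕ) : 2 ^ 5 ∣ q ^ (8 * i) - 1 := by
  have h1 : 2 ^ 5 ∣ q ^ 8 - 1 := by
    have := sq_dvd (j := 4) (by norm_num) (Nat.one_le_pow 4 _ h.pos) (by simpa using d4 h 1)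
    rwa [← pow_mul] at this
  rw [pow_mul]
  exact h1.trans (by simpa using Nat.sub_dvd_pow_sub_pow (q ^ 8) 1 i)

theorem o1 {q : ℕ} (h : Odd q) (i : ℕ) : 2 ^ 1 ∣ q ^ i - 1 := by
  obtain ⟨c, hc⟩ := h.pow (n := i)
  exact ⟨c, by omega⟩

theorem p1 {q : ℕ} (h : Odd q) (i : ℕ) : 2 ^ 1 ∣ q ^ i + 1 := by
  obtain ⟨c, hc⟩ := h.pow (n := i)
  exact ⟨c + 1, by omega⟩

section

variable (tb : OrderTable.{u}) {F : Type} [Field F] [Fintype F]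

include tb

/-- `2 ^ 15 ∣ |F4(q)|` -/
theorem f4_dvd (h : Odd (Fintype.card F)) : 2 ^ 15 ∣ Nat.card ↥(Lie.chevF4.group F) := by
  rw [tb.f4 F _ rfl]
  have h1 : 2 ^ 15 = 1 * 2 ^ 3 * 2 ^ 3 * 2 ^ 5 * 2 ^ 4 := by norm_num
  rw [h1]
  exact Nat.mul_dvd_mul (Nat.mul_dvd_mul (Nat.mul_dvd_mul (Nat.mul_dvd_mul (one_dvd _) (d2 h 1)) (d2 h 3)) (d8 h 1))
    (d4 h 3)

/-- `2 ^ 17 ∣ |E6(q)|` -/
theorem e6_dvd (h : Odd (Fintype.card F)) : 2 ^ 17 ∣ Nat.card ↥(Lie.chevE6.group F) := by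
  have h0 := tb.e6 F _ rfl
  have h1 : 2 ^ 17 = 1 * 2 ^ 3 * 2 ^ 1 * 2 ^ 3 * 2 ^ 5 * 2 ^ 1 * 2 ^ 4 := by norm_num
  have h2 : 2 ^ 17 ∣ Nat.gcd 3 (Fintype.card F - 1) * Nat.card ↥(Lie.chevE6.group F) := by
    rw [h0, h1]
    exact Nat.mul_dvd_mul (Nat.mul_dvd_mul (Nat.mul_dvd_mul (Nat.mul_dvd_mul (Nat.mul_dvd_mul (Nat.mul_dvd_mul
      (one_dvd _) (d2 h 1)) (o1 h 5)) (d2 h 3)) (d8 h 1)) (o1 h 9)) (d4 h 3)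
  refine Nat.Coprime.dvd_of_dvd_mul_left (Nat.Coprime.pow_left _ ?_) h2
  exact Nat.Coprime.coprime_dvd_right (Nat.gcd_dvd_left 3 _) (by norm_num)

/-- `2 ^ 17 ∣ |2E6(q)|` -/
theorem te6_dvd {q : ℕ} (hq : IsPrimePow q) (hF : Fintype.card F = q ^ 2) (h : Odd q) :
    2 ^ 17 ∣ Nat.card ↥(Lie.twistedE6 F q) := by
  have h0 := tb.te6 F q hq hF
  have h1 : 2 ^ 17 = 1 * 2 ^ 3 * 2 ^ 1 * 2 ^ 3 * 2 ^ 5 * 2 ^ 1 * 2 ^ 4 := by norm_num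
  have h2 : 2 ^ 17 ∣ Nat.gcd 3 (q + 1) * Nat.card ↥(Lie.twistedE6 F q) := by
    rw [h0, h1]
    exact Nat.mul_dvd_mul (Nat.mul_dvd_mul (Nat.mul_dvd_mul (Nat.mul_dvd_mul (Nat.mul_dvd_mul (Nat.mul_dvd_mul
      (one_dvd _) (d2 h 1)) (p1 h 5)) (d2 h 3)) (d8 h 1)) (p1 h 9)) (d4 h 3)
  refine Nat.Coprime.dvd_of_dvd_mul_left (Nat.Coprime.pow_left _ ?_) h2
  exact Nat.Coprime.coprime_dvd_right (Nat.gcd_dvd_left 3 _) (by norm_num)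

/-- `2 ^ 23 ∣ |E7(q)|` -/
theorem e7_dvd (h : Odd (Fintype.card F)) : 2 ^ 23 ∣ Nat.card ↥(Lie.chevE7.group F) := by
  have h0 := tb.e7 F _ rfl
  have h1 : 2 ^ 24 = 1 * 2 ^ 3 * 2 ^ 3 * 2 ^ 5 * 2 ^ 3 * 2 ^ 4 * 2 ^ 3 * 2 ^ 3 := by norm_num
  have h2 : 2 ^ 24 ∣ Nat.gcd 2 (Fintype.card F - 1) * Nat.card ↥(Lie.chevE7.group F) := by
    rw [h0, h1]
    exact Nat.mul_dvd_mul (Nat.mul_dvd_mul (Nat.mul_dvd_mul (Nat.mul_dvd_mul (Nat.mul_dvd_mul (Nat.mul_dvd_mul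
      (Nat.mul_dvd_mul (one_dvd _) (d2 h 1)) (d2 h 3)) (d8 h 1)) (d2 h 5)) (d4 h 3)) (d2 h 7)) (d2 h 9)
  have h3 : 2 ^ 24 ∣ 2 * Nat.card ↥(Lie.chevE7.group F) := h2.trans (Nat.mul_dvd_mul_right (Nat.gcd_dvd_left 2 _) _)
  have h4 : (2 : ℕ) ^ 24 = 2 * 2 ^ 23 := by norm_num
  rw [h4] at h3
  exact Nat.dvd_of_mul_dvd_mul_left (by norm_num) h3

/-- `2 ^ 30 ∣ |E8(q)|` -/
theorem e8_dvd (h : Odd (Fintype.card F)) : 2 ^ 30 ∣ Nat.card ↥(Lie.chevE8.group F) := by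
  rw [tb.e8 F _ rfl]
  have h1 : 2 ^ 30 = 1 * 2 ^ 3 * 2 ^ 5 * 2 ^ 4 * 2 ^ 3 * 2 ^ 3 * 2 ^ 4 * 2 ^ 5 * 2 ^ 3 := by norm_num
  rw [h1]
  exact Nat.mul_dvd_mul (Nat.mul_dvd_mul (Nat.mul_dvd_mul (Nat.mul_dvd_mul (Nat.mul_dvd_mul (Nat.mul_dvd_mul
    (Nat.mul_dvd_mul (Nat.mul_dvd_mul (one_dvd _) (d2 h 1)) (d8 h 1)) (d4 h 3)) (d2 h 7)) (d2 h 9)) (d4 h 5))
      (d8 h 3)) (d2 h 15)

end

end Cfsg.Agent.H418.NN
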